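import Groth.Prelude.Def_FlatFun
import Groth.Prelude.Def_QuotSh
import Groth.Prelude.Def_FlatMod2
import Groth.Agent.Desc19b.FlatOverBC
import Groth.Agent.EGA43.DvrCrit.Main
import Groth.Agent.ModStalk.Pullback
import Groth.Agent.ModStalk.Exact
import Mathlib.Algebra.Category.ModuleCat.Descent
import Mathlib.AlgebraicGeometry.Sites.Fpqc

/-!
# fpqc sheaf property of flattening functors
-/

set_option backward.isDefEq.respectTransparency false
set_option backward.defeqAttrib.useBackward true

universe u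

open CategoryTheory CategoryTheory.Limits AlgebraicGeometry Opposite

namespace Groth.Agent.FlatMor12.FlatFun

/-- Sheaf criterion: stability under morphisms and a pointwise descent. -/
theorem isSheaf_genPSp {S : Scheme.{u}} (P : Over S → Prop)
    (hst : ∀ {T T₀ : Over S} (_ : T ⟶ T₀), P T₀ → P T)
    (hdesc : ∀ T : Over S, (∀ t : T.left, ∃ (T' : Over S) (g : T' ⟶ T),
      Flat g.left ∧ t ∈ Set.range g.left ∧ P T') → P T) :
    Presheaf.IsSheaf (QuotSh.J Scheme.fpqcPrecoverage S) (FlatFun.genPSp S P) := by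
  rw [isSheaf_iff_isSheaf_of_type]
  intro T Sv hSv
  rw [GrothendieckTopology.mem_over_iff,
    Precoverage.mem_toGrothendieck_iff_of_isStableUnderComposition] at hSv
  obtain ⟨R, hR, hle⟩ := hSv
  intro x _
  obtain ⟨ι, Y, g, rfl⟩ := R.exists_eq_ofArrows
  obtain ⟨hsurj, hflat⟩ := (Scheme.ofArrows_mem_precoverage_iff _).1 hR.2
  have hP : P T := hdesc T fun t => by
    obtain ⟨i, hi⟩ := hsurj t
    have hmem : Sv.arrows (Over.homMk (g i) rfl : Over.mk (g i ≫ T.hom) ⟶ T) :=
      (Sieve.overEquiv_iff Sv _).1 (hle _ _ (Presieve.ofArrows.mk i))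
    obtain ⟨T₀, k, hk⟩ := (x _ hmem).down.down
    exact ⟨Over.mk (g i ≫ T.hom), Over.homMk (g i) rfl, hflat i, hi, hst k hk⟩
  exact ⟨⟨⟨⟨T, 𝟙 T, hP⟩⟩⟩, fun _ _ _ => Subsingleton.elim _ _, fun _ _ => Subsingleton.elim _ _⟩

variable {X S : Scheme.{u}} (f : X ⟶ S)

theorem isPullback_XTmap {T T' : Over S} (g : T' ⟶ T) :
    IsPullback (PicF.XTmap f g) (PicF.XTproj f T') (PicF.XTproj f T) g.left := by
  have h1 : PicF.XTmap f g ≫ pullback.fst f T.hom = pullback.fst f T'.hom := FGA.XTmap_fst f g
  refine IsPullback.of_right ?_ (by simp [PicF.XTmap, PicF.XTproj]) (IsPullback.of_hasPullback f T.hom)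
  rw [h1, Over.w g]
  exact IsPullback.of_hasPullback f T'.hom

/-- A point over given points upstairs, along a flat map. -/
theorem exists_point {T T' : Over S} (g : T' ⟶ T) [Flat g.left] (x : PicF.XT f T)
    (hx : PicF.XTproj f T x ∈ Set.range g.left) :
    Flat (PicF.XTmap f g) ∧ ∃ y, PicF.XTmap f g y = x := by
  refine ⟨MorphismProperty.of_isPullback (P := @Flat) (isPullback_XTmap f g).flip inferInstance, ?_⟩
  obtain ⟨t', ht'⟩ := hx
  obtain ⟨z, hz, -⟩ := Scheme.Pullback.exists_preimage_pullback (f := PicF.XTproj f T) (g := g.left) x t' ht'.symm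
  refine ⟨(isPullback_XTmap f g).isoPullback.inv z, ?_⟩
  rw [← Scheme.Hom.comp_apply, IsPullback.isoPullback_inv_fst, hz]

/-- `u_T` restricted to `T'` is `u_{T'}`. -/
noncomputable def etIso {T T' : Over S} (g : T' ⟶ T) :
    Scheme.Modules.pullback (pullback.fst f T.hom) ⋙ Scheme.Modules.pullback (PicF.XTmap f g) ≅
      Scheme.Modules.pullback (pullback.fst f T'.hom) :=
  Scheme.Modules.pullbackComp _ _ ≪≫ Scheme.Modules.pullbackCongr (FGA.XTmap_fst f g)

section Local

variable {Z Y : Scheme.{u}} {A B : Z.Modules} (φ : A ⟶ B)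

theorem faithfullyFlat_stalkMap (h : Y ⟶ Z) [Flat h] (y : Y) :
    (h.stalkMap y).hom.FaithfullyFlat := by
  algebraize [(h.stalkMap y).hom]
  haveI : Module.Flat (Z.presheaf.stalk (h y)) (Y.presheaf.stalk y) := Flat.stalkMap h y
  haveI : IsLocalHom (algebraMap (Z.presheaf.stalk (h y)) (Y.presheaf.stalk y)) :=
    inferInstanceAs (IsLocalHom (h.stalkMap y).hom)
  exact Module.FaithfullyFlat.of_flat_of_isLocalHom

theorem stalk_inj_surj_zero (h : Y ⟶ Z) [Flat h] (y : Y) :
    (Mono ((Scheme.Modules.pullback h).map φ) → Function.Injective ((DerSch.stalkFunctor Z (h y)).map φ)) ∧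
    (Epi ((Scheme.Modules.pullback h).map φ) → Function.Surjective ((DerSch.stalkFunctor Z (h y)).map φ)) ∧
    ((Scheme.Modules.pullback h).map φ = 0 → (DerSch.stalkFunctor Z (h y)).map φ = 0) := by
  have hf := faithfullyFlat_stalkMap h y
  have nat := (ModStalk.pullbackStalkIso h y).hom.naturality φ
  dsimp only [Functor.comp_obj, Functor.comp_map] at nat
  let ψ := (DerSch.stalkFunctor Z (h y)).map φ
  algebraize [(h.stalkMap y).hom]
  have e : (ModuleCat.extendScalars.{u, u, u} (h.stalkMap y).hom).map ψ =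
      (ModStalk.pullbackStalkIso h y).inv.app A ≫
        (DerSch.stalkFunctor Y y).map ((Scheme.Modules.pullback h).map φ) ≫
        (ModStalk.pullbackStalkIso h y).hom.app B := by
    rw [nat, Iso.inv_hom_id_app_assoc]
  refine ⟨fun hm => ?_, fun he => ?_, fun h0 => ?_⟩
  · have : Function.Injective ((ModuleCat.extendScalars.{u, u, u} (h.stalkMap y).hom).map ψ) := by
      have h1 := (ModuleCat.mono_iff_injective _).1
        ((ModStalk.preservesMonomorphisms_stalkFunctor y).preserves ((Scheme.Modules.pullback h).map φ))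
      rw [e]
      exact ((ModStalk.pullbackStalkIso h y).app B).toLinearEquiv.injective.comp
        (h1.comp ((ModStalk.pullbackStalkIso h y).app A).symm.toLinearEquiv.injective)
    exact (Module.FaithfullyFlat.lTensor_injective_iff_injective _ (Y.presheaf.stalk y) ψ.hom).1 this
  · have : Function.Surjective ((ModuleCat.extendScalars.{u, u, u} (h.stalkMap y).hom).map ψ) := by
      have hp : (DerSch.stalkFunctor Y y).PreservesEpimorphisms :=
        Functor.preservesEpimorphisms_of_adjunction (ModStalk.stalkAdj y)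
      have h1 := (ModuleCat.epi_iff_surjective _).1 (hp.preserves ((Scheme.Modules.pullback h).map φ))
      rw [e]
      exact ((ModStalk.pullbackStalkIso h y).app B).toLinearEquiv.surjective.comp
        (h1.comp ((ModStalk.pullbackStalkIso h y).app A).symm.toLinearEquiv.surjective)
    exact (Module.FaithfullyFlat.lTensor_surjective_iff_surjective _ (Y.presheaf.stalk y) ψ.hom).1 this
  · have : (ModuleCat.extendScalars.{u, u, u} (h.stalkMap y).hom).map ψ = 0 := by
      rw [e, h0, Functor.map_zero, zero_comp, comp_zero]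
    refine ModuleCat.hom_ext ?_
    refine (Module.FaithfullyFlat.zero_iff_lTensor_zero _ (Y.presheaf.stalk y) ψ.hom).2 ?_
    exact LinearMap.ext fun x => LinearMap.congr_fun (congrArg ModuleCat.Hom.hom this) x

theorem mono_of_local
    (hc : ∀ z : Z, ∃ (Y : Scheme.{u}) (h : Y ⟶ Z) (y : Y), Flat h ∧ h y = z ∧
      Mono ((Scheme.Modules.pullback h).map φ)) : Mono φ := by
  refine Preadditive.mono_of_isZero_kernel _ (ModStalk.isZero_of_stalks fun z => ?_)
  obtain ⟨Y, h, y, _, rfl, hm⟩ := hc z
  have := (ModuleCat.mono_iff_injective _).2 ((stalk_inj_surj_zero φ h y).1 hm)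
  exact IsZero.of_iso (isZero_kernel_of_mono ((DerSch.stalkFunctor Z (h y)).map φ))
    (PreservesKernel.iso (DerSch.stalkFunctor Z (h y)) φ)

theorem epi_of_local
    (hc : ∀ z : Z, ∃ (Y : Scheme.{u}) (h : Y ⟶ Z) (y : Y), Flat h ∧ h y = z ∧
      Epi ((Scheme.Modules.pullback h).map φ)) : Epi φ := by
  refine Preadditive.epi_of_isZero_cokernel _ (ModStalk.isZero_of_stalks fun z => ?_)
  obtain ⟨Y, h, y, _, rfl, he⟩ := hc z
  have := (ModuleCat.epi_iff_surjective _).2 ((stalk_inj_surj_zero φ h y).2.1 he)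
  exact IsZero.of_iso (isZero_cokernel_of_epi ((DerSch.stalkFunctor Z (h y)).map φ))
    (PreservesCokernel.iso (DerSch.stalkFunctor Z (h y)) φ)

theorem zero_of_local
    (hc : ∀ z : Z, ∃ (Y : Scheme.{u}) (h : Y ⟶ Z) (y : Y), Flat h ∧ h y = z ∧
      (Scheme.Modules.pullback h).map φ = 0) : φ = 0 := by
  have : IsIso (kernel.ι φ) := ModStalk.isIso_of_stalks _ fun z => by
    obtain ⟨Y, h, y, _, rfl, h0⟩ := hc z
    have hk : (DerSch.stalkFunctor Z (h y)).map φ = 0 := (stalk_inj_surj_zero φ h y).2.2 h0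
    haveI : IsIso (kernel.ι ((DerSch.stalkFunctor Z (h y)).map φ)) := kernel.ι_of_zero hk
    rw [← kernelComparison_comp_ι]
    infer_instance
  rw [← cancel_epi (kernel.ι φ), kernel.condition, comp_zero]

end Local

variable {F G : X.Modules} (u : F ⟶ G)

theorem mono_desc {T : Over S} (hc : ∀ t : T.left, ∃ (T' : Over S) (g : T' ⟶ T), Flat g.left ∧
    t ∈ Set.range g.left ∧ Mono ((Scheme.Modules.pullback (pullback.fst f T'.hom)).map u)) :
    Mono ((Scheme.Modules.pullback (pullback.fst f T.hom)).map u) := by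
  refine mono_of_local _ fun z => ?_
  obtain ⟨T', g, _, ht, hm⟩ := hc (PicF.XTproj f T z)
  obtain ⟨hfl, y, hy⟩ := exists_point f g z ht
  refine ⟨_, PicF.XTmap f g, y, hfl, hy, ?_⟩
  have e := (etIso f g).hom.naturality u
  dsimp only [Functor.comp_obj, Functor.comp_map] at e
  rw [← IsIso.eq_comp_inv] at e
  · rw [e]; infer_instance

theorem mono_pullback_of_flat {T T' : Over S} (g : T' ⟶ T) [Flat g.left]
    [Mono ((Scheme.Modules.pullback (pullback.fst f T.hom)).map u)] :
    Mono ((Scheme.Modules.pullback (pullback.fst f T'.hom)).map u) := by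
  haveI : Flat (PicF.XTmap f g) := MorphismProperty.of_isPullback (P := @Flat) (isPullback_XTmap f g).flip inferInstance
  set v := (Scheme.Modules.pullback (pullback.fst f T.hom)).map u
  haveI : Mono ((Scheme.Modules.pullback (PicF.XTmap f g)).map v) := by
    refine Preadditive.mono_of_isZero_kernel _ (ModStalk.isZero_of_stalks fun y => ?_)
    haveI : PreservesFiniteLimits (ModuleCat.extendScalars.{u, u, u} ((PicF.XTmap f g).stalkMap y).hom) :=
      ModuleCat.preservesFiniteLimits_extendScalars_of_flat (Flat.stalkMap (PicF.XTmap f g) y)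
    haveI : Mono ((DerSch.stalkFunctor _ y).map ((Scheme.Modules.pullback (PicF.XTmap f g)).map v)) := by
      have nat := (ModStalk.pullbackStalkIso (PicF.XTmap f g) y).hom.naturality v
      dsimp only [Functor.comp_obj, Functor.comp_map] at nat
      rw [← IsIso.eq_comp_inv] at nat
      have h1 := (ModuleCat.mono_iff_injective _).1
        ((ModStalk.preservesMonomorphisms_stalkFunctor (PicF.XTmap f g y)).preserves v)
      rw [ModuleCat.mono_iff_injective, nat]
      have h2 : Function.Injective ((ModuleCat.extendScalars.{u, u, u} ((PicF.XTmap f g).stalkMap y).hom).map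
          ((DerSch.stalkFunctor _ (PicF.XTmap f g y)).map v)) := by
        algebraize [((PicF.XTmap f g).stalkMap y).hom]
        haveI : Module.Flat ((PicF.XT f T).presheaf.stalk (PicF.XTmap f g y))
            ((PicF.XT f T').presheaf.stalk y) := Flat.stalkMap (PicF.XTmap f g) y
        exact Module.Flat.lTensor_preserves_injective_linearMap _ h1
      rw [show inv ((ModStalk.pullbackStalkIso (PicF.XTmap f g) y).hom.app
        ((Scheme.Modules.pullback (pullback.fst f T.hom)).obj G)) =
        (ModStalk.pullbackStalkIso (PicF.XTmap f g) y).inv.app _ from by simp]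
      exact ((ModStalk.pullbackStalkIso (PicF.XTmap f g) y).app _).symm.toLinearEquiv.injective.comp
        (h2.comp ((ModStalk.pullbackStalkIso (PicF.XTmap f g) y).app _).toLinearEquiv.injective)
    exact IsZero.of_iso (isZero_kernel_of_mono ((DerSch.stalkFunctor _ y).map
      ((Scheme.Modules.pullback (PicF.XTmap f g)).map v))) (PreservesKernel.iso (DerSch.stalkFunctor _ y) _)
  have e := (etIso f g).hom.naturality u
  dsimp only [Functor.comp_obj, Functor.comp_map] at e
  rw [← IsIso.inv_comp_eq] at e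
  · rw [← e]; infer_instance

theorem epi_stable {T T₀ : Over S} (g : T ⟶ T₀)
    [Epi ((Scheme.Modules.pullback (pullback.fst f T₀.hom)).map u)] :
    Epi ((Scheme.Modules.pullback (pullback.fst f T.hom)).map u) := by
  haveI := (Scheme.Modules.pullbackPushforwardAdjunction (PicF.XTmap f g)).leftAdjoint_preservesColimits
    (F := Scheme.Modules.pullback (PicF.XTmap f g))
  have e := (etIso f g).hom.naturality u
  dsimp only [Functor.comp_obj, Functor.comp_map] at e
  rw [← IsIso.inv_comp_eq] at e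
  · rw [← e]; infer_instance

theorem epi_desc {T : Over S} (hc : ∀ t : T.left, ∃ (T' : Over S) (g : T' ⟶ T), Flat g.left ∧
    t ∈ Set.range g.left ∧ Epi ((Scheme.Modules.pullback (pullback.fst f T'.hom)).map u)) :
    Epi ((Scheme.Modules.pullback (pullback.fst f T.hom)).map u) := by
  refine epi_of_local _ fun z => ?_
  obtain ⟨T', g, _, ht, hm⟩ := hc (PicF.XTproj f T z)
  obtain ⟨hfl, y, hy⟩ := exists_point f g z ht
  refine ⟨_, PicF.XTmap f g, y, hfl, hy, ?_⟩
  have e := (etIso f g).hom.naturality u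
  dsimp only [Functor.comp_obj, Functor.comp_map] at e
  rw [← IsIso.eq_comp_inv] at e
  · rw [e]; infer_instance

theorem isIso_desc {T : Over S} (hc : ∀ t : T.left, ∃ (T' : Over S) (g : T' ⟶ T), Flat g.left ∧
    t ∈ Set.range g.left ∧ IsIso ((Scheme.Modules.pullback (pullback.fst f T'.hom)).map u)) :
    IsIso ((Scheme.Modules.pullback (pullback.fst f T.hom)).map u) := by
  haveI := mono_desc f u fun t => by
    obtain ⟨T', g, h₁, h₂, h₃⟩ := hc t
    exact ⟨T', g, h₁, h₂, inferInstance⟩
  haveI := epi_desc f u fun t => by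
    obtain ⟨T', g, h₁, h₂, h₃⟩ := hc t
    exact ⟨T', g, h₁, h₂, inferInstance⟩
  exact isIso_of_mono_of_epi _

theorem isIso_stable {T T₀ : Over S} (g : T ⟶ T₀)
    [IsIso ((Scheme.Modules.pullback (pullback.fst f T₀.hom)).map u)] :
    IsIso ((Scheme.Modules.pullback (pullback.fst f T.hom)).map u) :=
  (NatIso.isIso_map_iff (etIso f g) u).1
    (inferInstanceAs (IsIso ((Scheme.Modules.pullback (PicF.XTmap f g)).map _)))

theorem zero_stable {T T₀ : Over S} (g : T ⟶ T₀)
    (h : (Scheme.Modules.pullback (pullback.fst f T₀.hom)).map u = 0) :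
    (Scheme.Modules.pullback (pullback.fst f T.hom)).map u = 0 := by
  have e := (etIso f g).hom.naturality u
  dsimp only [Functor.comp_obj, Functor.comp_map] at e
  rw [h, Functor.map_zero, zero_comp] at e
  exact (cancel_epi ((etIso f g).hom.app F)).1 (e.symm.trans comp_zero.symm)

theorem zero_desc {T : Over S} (hc : ∀ t : T.left, ∃ (T' : Over S) (g : T' ⟶ T), Flat g.left ∧
    t ∈ Set.range g.left ∧ (Scheme.Modules.pullback (pullback.fst f T'.hom)).map u = 0) :
    (Scheme.Modules.pullback (pullback.fst f T.hom)).map u = 0 := by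
  refine zero_of_local _ fun z => ?_
  obtain ⟨T', g, _, ht, hm⟩ := hc (PicF.XTproj f T z)
  obtain ⟨hfl, y, hy⟩ := exists_point f g z ht
  refine ⟨_, PicF.XTmap f g, y, hfl, hy, ?_⟩
  have e := (etIso f g).hom.naturality u
  dsimp only [Functor.comp_obj, Functor.comp_map] at e
  rw [← cancel_mono ((etIso f g).hom.app G), zero_comp]
  exact e.trans (by rw [hm, comp_zero])

theorem flat_stable {T T₀ : Over S} (g : T ⟶ T₀)
    (h : FlatMod.IsFlatOver (PicF.XTproj f T₀) (FGA.ET f F T₀)) :
    FlatMod.IsFlatOver (PicF.XTproj f T) (FGA.ET f F T) := fun x =>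
  EGA43.DvrCrit.isFlatOverAt_of_iso _ (FGA.ETiso f F g) x
    (Desc19b.isFlatOverAt_baseChange _ _ _ _ (isPullback_XTmap f g) _ x (h _))

theorem flatAt_of_flatAt {T T' : Over S} (g : T' ⟶ T) [Flat g.left] (y : PicF.XT f T')
    (h : FlatMod.IsFlatOverAt (PicF.XTproj f T') (FGA.ET f F T') y) :
    FlatMod.IsFlatOverAt (PicF.XTproj f T) (FGA.ET f F T) (PicF.XTmap f g y) :=
  Desc19b.isFlatOverAt_of_baseChange _ _ _ _ (isPullback_XTmap f g) _ y (Flat.stalkMap _ _)
    (EGA43.DvrCrit.isFlatOverAt_of_iso _ (FGA.ETiso f F g).symm y h)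

theorem flat_desc {T : Over S} (hc : ∀ t : T.left, ∃ (T' : Over S) (g : T' ⟶ T), Flat g.left ∧
    t ∈ Set.range g.left ∧ FlatMod.IsFlatOver (PicF.XTproj f T') (FGA.ET f F T')) :
    FlatMod.IsFlatOver (PicF.XTproj f T) (FGA.ET f F T) := fun z => by
  obtain ⟨T', g, _, ht, hm⟩ := hc (PicF.XTproj f T z)
  obtain ⟨hfl, y, rfl⟩ := exists_point f g z ht
  exact flatAt_of_flatAt f g y (hm y)

end Groth.Agent.FlatMor12.FlatFun
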