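import Groth.Agent.FlatMor12.FlatFun.StageAlg
import Groth.Agent.FlatMor12.FlatFun.Sheaf
import Groth.Agent.FlatMor12.FittSheaf
import Groth.Agent.EGA43.InjFibre.InjLimitScheme
import Groth.Agent.Desc19b.ModStFibGrpd
import Groth.Agent.Coherent.SupportPullback
import Groth.Agent.Props12.FlatOver

/-!
# Zero / epi / iso of a base-changed map descends to a stage of a limit of affine schemes
-/

set_option autoImplicit false
set_option backward.isDefEq.respectTransparency false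

universe u

open CategoryTheory CategoryTheory.Limits AlgebraicGeometry Opposite TopologicalSpace TensorProduct
open Groth.Agent.Coherent Groth.Agent.EGA43

namespace Groth.Agent.FlatMor12.FlatFun

/-- The property of a map of modules attached to a kind. -/
def Kind.Glob (k : Kind) {Z : Scheme.{u}} {A B : Z.Modules} (φ : A ⟶ B) : Prop :=
  match k with
  | .zero => φ = 0
  | .surj => Epi φ
  | .bij => IsIso φ

section Glob

variable (k : Kind) {Z Y : Scheme.{u}} {A B A' B' : Z.Modules}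

theorem Kind.glob_of_iso (φ : A ⟶ B) (φ' : A' ⟶ B') (a : A ≅ A') (b : B ≅ B')
    (w : φ ≫ b.hom = a.hom ≫ φ') (h : k.Glob φ) : k.Glob φ' := by
  have e : φ' = a.inv ≫ φ ≫ b.hom := by rw [w, Iso.inv_hom_id_assoc]
  subst e
  cases k with
  | zero => simp only [Kind.Glob] at h ⊢; rw [h, zero_comp, comp_zero]
  | surj => simp only [Kind.Glob] at h ⊢; infer_instance
  | bij => simp only [Kind.Glob] at h ⊢; infer_instance

theorem Kind.glob_pullback (h : Y ⟶ Z) (φ : A ⟶ B) (hφ : k.Glob φ) :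
    k.Glob ((Scheme.Modules.pullback h).map φ) := by
  cases k with
  | zero => simp only [Kind.Glob] at hφ ⊢; rw [hφ, Functor.map_zero]
  | surj =>
    simp only [Kind.Glob] at hφ ⊢
    haveI := (Scheme.Modules.pullbackPushforwardAdjunction h).leftAdjoint_preservesColimits
      (F := Scheme.Modules.pullback h)
    infer_instance
  | bij => simp only [Kind.Glob] at hφ ⊢; infer_instance

theorem Kind.glob_of_stalks (φ : A ⟶ B)
    (h : ∀ z, k.Holds ((DerSch.stalkFunctor Z z).map φ)) : k.Glob φ := by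
  cases k with
  | zero =>
    show φ = 0
    have : IsIso (kernel.ι φ) := ModStalk.isIso_of_stalks _ fun z => by
      have hk : (DerSch.stalkFunctor Z z).map φ = 0 :=
        ModuleCat.hom_ext (LinearMap.ext fun m => h z m)
      haveI : IsIso (kernel.ι ((DerSch.stalkFunctor Z z).map φ)) := kernel.ι_of_zero hk
      rw [← kernelComparison_comp_ι]
      infer_instance
    rw [← cancel_epi (kernel.ι φ), kernel.condition, comp_zero]
  | surj =>
    show Epi φ
    refine Preadditive.epi_of_isZero_cokernel _ (ModStalk.isZero_of_stalks fun z => ?_)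
    have := (ModuleCat.epi_iff_surjective ((DerSch.stalkFunctor Z z).map φ)).2 (h z)
    exact IsZero.of_iso (isZero_cokernel_of_epi ((DerSch.stalkFunctor Z z).map φ))
      (PreservesCokernel.iso (DerSch.stalkFunctor Z z) φ)
  | bij =>
    show IsIso φ
    exact ModStalk.isIso_of_stalks _ fun z => (ConcreteCategory.isIso_iff_bijective _).2 (h z)

theorem Kind.stalk_of_iso (φ : A ⟶ B) (φ' : A' ⟶ B') (a : A ≅ A') (b : B ≅ B')
    (w : φ ≫ b.hom = a.hom ≫ φ') (z : Z) (h : k.Holds ((DerSch.stalkFunctor Z z).map φ)) :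
    k.Holds ((DerSch.stalkFunctor Z z).map φ') := by
  have e := congrArg (DerSch.stalkFunctor Z z).map w
  rw [Functor.map_comp, Functor.map_comp] at e
  exact (k.holds_iff_of_equiv _ _ ((DerSch.stalkFunctor Z z).mapIso a).toLinearEquiv.toAddEquiv
    ((DerSch.stalkFunctor Z z).mapIso b).toLinearEquiv.toAddEquiv
    (fun m => ConcreteCategory.congr_hom e m)).1 h

theorem Kind.stalk_pullback (h : Y ⟶ Z) (φ : A ⟶ B) (y : Y)
    (hφ : k.Holds ((DerSch.stalkFunctor Z (h y)).map φ)) :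
    k.Holds ((DerSch.stalkFunctor Y y).map ((Scheme.Modules.pullback h).map φ)) := by
  have nat := (ModStalk.pullbackStalkIso h y).hom.naturality φ
  dsimp only [Functor.comp_obj, Functor.comp_map] at nat
  algebraize [(h.stalkMap y).hom]
  have h1 := k.holds_lTensor ((DerSch.stalkFunctor Z (h y)).map φ).hom hφ (Y.presheaf.stalk y)
  refine (k.holds_iff_of_equiv _ _
    ((ModStalk.pullbackStalkIso h y).app A).toLinearEquiv.toAddEquiv
    ((ModStalk.pullbackStalkIso h y).app B).toLinearEquiv.toAddEquiv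
    (fun m => ConcreteCategory.congr_hom nat m)).2 ?_
  exact h1

theorem Kind.stalk_of_sections [Coh.IsQCoh A] [Coh.IsQCoh B] (φ : A ⟶ B) {U : Z.Opens}
    (hU : IsAffineOpen U) (h : k.Holds (φ.app U)) {z : Z} (hz : z ∈ U) :
    k.Holds ((DerSch.stalkFunctor Z z).map φ) := by
  let _ := (Z.presheaf.germ U z hz).hom.toAlgebra
  let _ := Module.compHom (A.presheaf.stalk z) (Z.presheaf.germ U z hz).hom
  let _ := Module.compHom (B.presheaf.stalk z) (Z.presheaf.germ U z hz).hom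
  let gA : Γ(A, U) →ₗ[Γ(Z, U)] A.presheaf.stalk z :=
    { toFun := fun m => A.presheaf.germ U z hz m
      map_add' := fun a b => map_add _ a b
      map_smul' := fun r m => QCohLoc.germ_smul' A hz r m }
  let gB : Γ(B, U) →ₗ[Γ(Z, U)] B.presheaf.stalk z :=
    { toFun := fun m => B.presheaf.germ U z hz m
      map_add' := fun a b => map_add _ a b
      map_smul' := fun r m => QCohLoc.germ_smul' B hz r m }
  have := QcohFP.isLocalizedModule_germ A hU hz gA fun _ => rfl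
  have := QcohFP.isLocalizedModule_germ B hU hz gB fun _ => rfl
  let l' : A.presheaf.stalk z →ₗ[Γ(Z, U)] B.presheaf.stalk z :=
    { toFun := fun m => (DerSch.stalkFunctor Z z).map φ m
      map_add' := fun a b => map_add ((DerSch.stalkFunctor Z z).map φ).hom a b
      map_smul' := fun r m => ((DerSch.stalkFunctor Z z).map φ).hom.map_smul (Z.presheaf.germ U z hz r) m }
  exact k.holds_localized (appLin φ U) h (hU.primeIdealOf ⟨z, hz⟩).asIdeal.primeCompl gA gB l' fun m => DerSch.stalkFunctor_map_germ z φ U hz m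

theorem Kind.sections_of_glob [Coh.IsQCoh A] [Coh.IsQCoh B] (φ : A ⟶ B) (h : k.Glob φ) {U : Z.Opens}
    (hU : IsAffineOpen U) : k.Holds (φ.app U) := by
  cases k with
  | zero =>
    intro m
    simp only [Kind.Glob] at h
    subst h
    rfl
  | surj =>
    simp only [Kind.Glob] at h
    exact FittSheaf.surjective_app_of_epi' φ hU
  | bij =>
    simp only [Kind.Glob] at h
    exact (ConcreteCategory.isIso_iff_bijective (φ.app U)).1 inferInstance

/-- Sections of a pullback on affines: the base change of the map on sections. -/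
theorem Kind.sections_pullback_iff [Coh.IsQCoh A] [Coh.IsQCoh B] (φ : A ⟶ B) (q : Y ⟶ Z) {U : Z.Opens}
    (hU : IsAffineOpen U) {U' : Y.Opens} (hU' : IsAffineOpen U') (e : U' ≤ q ⁻¹ᵁ U) :
    letI := (q.appLE U U' e).hom.toAlgebra
    k.Holds ((appLin φ U).lTensor Γ(Y, U')) ↔ k.Holds (((Scheme.Modules.pullback q).map φ).app U') := by
  let _ := (q.appLE U U' e).hom.toAlgebra
  let PA := (Scheme.Modules.pullback q).obj A
  let PB := (Scheme.Modules.pullback q).obj B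
  let _ : Module Γ(Z, U) Γ(PA, U') := Module.compHom _ (q.appLE U U' e).hom
  let _ : Module Γ(Z, U) Γ(PB, U') := Module.compHom _ (q.appLE U U' e).hom
  have : IsScalarTower Γ(Z, U) Γ(Y, U') Γ(PA, U') := .of_algebraMap_smul fun _ _ => rfl
  have : IsScalarTower Γ(Z, U) Γ(Y, U') Γ(PB, U') := .of_algebraMap_smul fun _ _ => rfl
  obtain ⟨μA, hA, hA'⟩ := InjFibre.pullMap_isBaseChange q hU hU' e A
  obtain ⟨μB, hB, hB'⟩ := InjFibre.pullMap_isBaseChange q hU hU' e B
  refine k.holds_iff_of_equiv _ _ hA.equiv.toAddEquiv hB.equiv.toAddEquiv fun z => ?_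
  show hB.equiv _ = ((Scheme.Modules.pullback q).map φ).app U' (hA.equiv z)
  induction z with
  | zero => simp only [map_zero]
  | add a b ha hb => simp only [map_add, ha, hb]
  | tmul a m =>
    rw [LinearMap.lTensor_tmul, IsBaseChange.equiv_tmul, IsBaseChange.equiv_tmul, hA', hB',
      Scheme.Modules.Hom.app_smul, InjFibre.pullMap_natural]
    rfl

end Glob

section Limit

variable (k : Kind) {I : Type u} [SmallCategory I] [IsCofiltered I] {D : I ⥤ Scheme.{u}} {c : Cone D}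
  {i₀ : I} {Z₀ W : Scheme.{u}} {g₀ : Z₀ ⟶ D.obj i₀} {q : W ⟶ Z₀} {g : W ⟶ c.pt}
  {F₀ G₀ : Z₀.Modules} [Coh.IsQCoh F₀] [Coh.IsQCoh G₀]

theorem Kind.exists_stage_scheme [∀ {i j} (φ : i ⟶ j), IsAffineHom (D.map φ)] [CompactSpace Z₀]
    (hc : IsLimit c) (sq : IsPullback q g g₀ (c.π.app i₀)) [IsAffineHom q] (u₀ : F₀ ⟶ G₀)
    (hM : k = .zero ∨ k = .bij → CohB1.IsFT F₀) (hN : k = .surj → CohB1.IsFT G₀)
    (hN' : k = .bij → CohB1.IsFP G₀) (h : k.Glob ((Scheme.Modules.pullback q).map u₀)) :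
    ∃ j : Over i₀, k.Glob ((Scheme.Modules.pullback (pullback.fst g₀ (D.map j.hom))).map u₀) := by
  classical
  let E := Limit.stage D g₀
  let cE := Limit.stageCone D c g₀ sq
  have hcE : IsLimit cE := Limit.isLimitStageCone D c g₀ sq hc
  let p : ∀ j : Over i₀, E.obj j ⟶ Z₀ := fun j => pullback.fst g₀ (D.map j.hom)
  have hp : ∀ {i j : Over i₀} (φ : i ⟶ j), E.map φ ≫ p j = p i := Limit.stage_map_fst D g₀
  have hp' : ∀ j, cE.π.app j ≫ p j = q := fun j => pullback.lift_fst _ _ _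
  have : ∀ j, IsAffineHom (p j) := fun j => MorphismProperty.pullback_fst g₀ (D.map j.hom) inferInstance
  have key : ∀ U : Z₀.affineOpens, ∃ j : Over i₀, ∀ z : E.obj j, p j z ∈ U.1 →
      k.Holds ((DerSch.stalkFunctor _ z).map ((Scheme.Modules.pullback (p j)).map u₀)) := by
    rintro ⟨U, hU⟩
    let _ : ∀ j, Algebra Γ(Z₀, U) Γ(E.obj j, p j ⁻¹ᵁ U) := fun j =>
      ((p j).appLE U (p j ⁻¹ᵁ U) le_rfl).hom.toAlgebra
    let _ : Algebra Γ(Z₀, U) Γ(W, q ⁻¹ᵁ U) := (q.appLE U (q ⁻¹ᵁ U) le_rfl).hom.toAlgebra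
    let _ : Algebra Γ(Z₀, U) Γ(cE.pt, q ⁻¹ᵁ U) := (q.appLE U (q ⁻¹ᵁ U) le_rfl).hom.toAlgebra
    have hs := InjFibre.colimSys_preimage (E := E) (cE := cE) hcE p hp q hp' hU
    have := InjFibre.isQCoh_pullback q F₀
    have := InjFibre.isQCoh_pullback q G₀
    have h1 := (k.sections_pullback_iff u₀ q hU (hU.preimage q) le_rfl).2
      (k.sections_of_glob _ h (hU.preimage q))
    obtain ⟨j, hj⟩ := k.exists_stage hs (appLin u₀ U)
      (fun hk => finite_sections F₀ (locallyFinGen_of_isFT F₀ (hM hk)) hU)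
      (fun hk => finite_sections G₀ (locallyFinGen_of_isFT G₀ (hN hk)) hU)
      (fun hk => QcohFP.finitePresentation_sections G₀ (hN' hk) hU) h1
    refine ⟨j, fun z hz => ?_⟩
    have := InjFibre.isQCoh_pullback (p j) F₀
    have := InjFibre.isQCoh_pullback (p j) G₀
    exact k.stalk_of_sections _ (hU.preimage (p j))
      ((k.sections_pullback_iff u₀ (p j) hU (hU.preimage (p j)) le_rfl).1 hj) hz
  choose J hJ using key
  obtain ⟨t, ht⟩ := isCompact_univ.elim_finite_subcover (fun U : Z₀.affineOpens => (U.1 : Set Z₀))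
    (fun U => U.1.isOpen) fun z _ => by
      obtain ⟨V, hV, hzV, -⟩ := exists_isAffineOpen_mem_and_subset (x := z) (U := ⊤) trivial
      exact Set.mem_iUnion.2 ⟨⟨V, hV⟩, hzV⟩
  obtain ⟨j, hj⟩ := IsCofiltered.inf_objs_exists (t.image J)
  refine ⟨j, k.glob_of_stalks _ fun z => ?_⟩
  obtain ⟨U, hUt, hzU⟩ := Set.mem_iUnion₂.1 (ht (Set.mem_univ (p j z)))
  obtain ⟨ψ⟩ := hj (Finset.mem_image_of_mem J hUt)
  have h1 : p (J U) (E.map ψ z) ∈ U.1 := by
    rw [← Scheme.Hom.comp_apply, hp]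
    exact hzU
  have h2 := k.stalk_pullback (E.map ψ) _ z (hJ U _ h1)
  let e := Scheme.Modules.pullbackComp (E.map ψ) (p (J U)) ≪≫ Scheme.Modules.pullbackCongr (hp ψ)
  exact k.stalk_of_iso _ _ (e.app F₀) (e.app G₀) (e.hom.naturality u₀) z h2

end Limit

section Over

variable (k : Kind) {X S : Scheme.{u}} (f : X ⟶ S) {F G : X.Modules} (u : F ⟶ G)

/-- The condition on `T`: the base change of `u` to `T` has the property. -/
def Kind.Cond (T : Over S) : Prop :=
  k.Glob ((Scheme.Modules.pullback (pullback.fst f T.hom)).map u)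

theorem Kind.cond_stable {T T₀ : Over S} (g : T ⟶ T₀) (h : k.Cond f u T₀) : k.Cond f u T :=
  k.glob_of_iso _ _ ((etIso f g).app F) ((etIso f g).app G) ((etIso f g).hom.naturality u)
    (k.glob_pullback (PicF.XTmap f g) _ h)

theorem Kind.exists_cond_stage [QuasiCompact f] [Coh.IsQCoh F] [Coh.IsQCoh G]
    (hM : k = .zero ∨ k = .bij → CohB1.IsFT F) (hN : k = .surj → CohB1.IsFT G)
    (hN' : k = .bij → CohB1.IsFP G) {I : Type u} [SmallCategory I] [IsCofiltered I]
    (D : I ⥤ Over S) (c : Cone D) (hc : IsLimit ((Over.forget S).mapCone c))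
    (hD : ∀ i, IsAffine (D.obj i).left) (hT : IsAffine c.pt.left) (h : k.Cond f u c.pt) :
    ∃ i, k.Cond f u (D.obj i) := by
  obtain ⟨i₀⟩ := (IsCofiltered.nonempty : Nonempty I)
  have : ∀ i, IsAffine ((D ⋙ Over.forget S).obj i) := hD
  have : ∀ {i j : I} (φ : i ⟶ j), IsAffineHom ((D ⋙ Over.forget S).map φ) := fun φ => inferInstance
  have : IsAffine (D.obj i₀).left := hD i₀
  have : IsAffine c.pt.left := hT
  have hπ : IsAffineHom (c.π.app i₀).left := @isAffineHom_of_isAffine _ _ (c.π.app i₀).left hT (hD i₀)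
  have : CompactSpace (PicF.XT f (D.obj i₀)) :=
    QuasiCompact.compactSpace_of_compactSpace (PicF.XTproj f (D.obj i₀))
  have sq := isPullback_XTmap f (c.π.app i₀)
  have : IsAffineHom (PicF.XTmap f (c.π.app i₀)) :=
    MorphismProperty.of_isPullback (P := @IsAffineHom) sq.flip inferInstance
  have := InjFibre.isQCoh_pullback (pullback.fst f (D.obj i₀).hom) F
  have := InjFibre.isQCoh_pullback (pullback.fst f (D.obj i₀).hom) G
  obtain ⟨j, hj⟩ := k.exists_stage_scheme (D := D ⋙ Over.forget S) (c := (Over.forget S).mapCone c) hc sq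
    ((Scheme.Modules.pullback (pullback.fst f (D.obj i₀).hom)).map u)
    (fun hk => isFT_pullback_qcoh _ inferInstance (hM hk))
    (fun hk => isFT_pullback_qcoh _ inferInstance (hN hk))
    (fun hk => Desc19b.ModStFib.isFP_pullback _ G (hN' hk))
    (k.glob_of_iso _ _ ((etIso f (c.π.app i₀)).app F).symm ((etIso f (c.π.app i₀)).app G).symm
      ((etIso f (c.π.app i₀)).inv.naturality u) h)
  refine ⟨j.left, ?_⟩
  have sq' := isPullback_XTmap f (D.map j.hom)
  have e : sq'.isoPullback.hom ≫ pullback.fst _ _ = PicF.XTmap f (D.map j.hom) :=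
    IsPullback.isoPullback_hom_fst _
  let ε := Scheme.Modules.pullbackComp sq'.isoPullback.hom
    (pullback.fst (PicF.XTproj f (D.obj i₀)) ((D ⋙ Over.forget S).map j.hom)) ≪≫
    Scheme.Modules.pullbackCongr e
  exact k.glob_of_iso _ _ ((etIso f (D.map j.hom)).app F) ((etIso f (D.map j.hom)).app G)
    ((etIso f (D.map j.hom)).hom.naturality u)
    (k.glob_of_iso _ _ (ε.app _) (ε.app _) (ε.hom.naturality _)
      (k.glob_pullback sq'.isoPullback.hom _ hj))

end Over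

section FlatStage

variable {I : Type u} [SmallCategory I] [IsCofiltered I] {D : I ⥤ Scheme.{u}} {c : Cone D}
  {i₀ : I} {Z₀ W : Scheme.{u}} {g₀ : Z₀ ⟶ D.obj i₀} {q : W ⟶ Z₀} {g : W ⟶ c.pt}
  {F₀ : Z₀.Modules} [Coh.IsQCoh F₀]

theorem exists_flat_stage_scheme [∀ {i j} (φ : i ⟶ j), IsAffineHom (D.map φ)] [∀ i, IsAffine (D.obj i)]
    [IsAffine c.pt] [CompactSpace Z₀] [LocallyOfFinitePresentation g₀]
    (hc : IsLimit c) (sq : IsPullback q g g₀ (c.π.app i₀)) (hF : CohB1.IsFP F₀)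
    (h : FlatMod.IsFlatOver g ((Scheme.Modules.pullback q).obj F₀)) :
    ∃ j : Over i₀, FlatMod.IsFlatOver (pullback.snd g₀ (D.map j.hom))
      ((Scheme.Modules.pullback (pullback.fst g₀ (D.map j.hom))).obj F₀) := by
  classical
  let E := Limit.stage D g₀
  let p : ∀ j : Over i₀, E.obj j ⟶ Z₀ := fun j => pullback.fst g₀ (D.map j.hom)
  have hp : ∀ {i j : Over i₀} (φ : i ⟶ j), E.map φ ≫ p j = p i := Limit.stage_map_fst D g₀
  let a : ∀ j : Over i₀, D.obj j.left ⟶ D.obj i₀ := fun j => D.map j.hom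
  let π₀ := c.π.app i₀
  have hV : IsAffineOpen (⊤ : (D.obj i₀).Opens) := isAffineOpen_top _
  have : ∀ j, IsAffineHom (a j) := fun j => inferInstanceAs (IsAffineHom (D.map j.hom))
  have hπa : IsAffineHom π₀ := @isAffineHom_of_isAffine _ _ π₀ ‹IsAffine c.pt› (‹∀ i, IsAffine (D.obj i)› i₀)
  let _ : ∀ j, Algebra Γ(D.obj i₀, ⊤) Γ((Over.forget i₀ ⋙ D).obj j, a j ⁻¹ᵁ ⊤) := fun j =>
    ((a j).appLE ⊤ (a j ⁻¹ᵁ ⊤) le_rfl).hom.toAlgebra
  let _ : Algebra Γ(D.obj i₀, ⊤) Γ((c.whisker (Over.forget i₀)).pt, π₀ ⁻¹ᵁ ⊤) :=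
    (π₀.appLE ⊤ (π₀ ⁻¹ᵁ ⊤) le_rfl).hom.toAlgebra
  have : ∀ {i j : Over i₀} (φ : i ⟶ j), IsAffineHom ((Over.forget i₀ ⋙ D).map φ) := fun φ =>
    inferInstanceAs (IsAffineHom (D.map φ.left))
  have hs := InjFibre.colimSys_preimage (E := Over.forget i₀ ⋙ D) (cE := c.whisker (Over.forget i₀))
    ((Functor.Initial.isLimitWhiskerEquiv (Over.forget i₀) c).symm hc) a
    (fun φ => by rw [Functor.comp_map, ← D.map_comp]; exact congrArg D.map (Over.w φ)) π₀
    (fun j => c.w j.hom) hV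
  have key : ∀ U : Z₀.affineOpens, ∃ j : Over i₀, ∀ z : E.obj j, p j z ∈ U.1 →
      FlatMod.IsFlatOverAt (pullback.snd g₀ (D.map j.hom))
        ((Scheme.Modules.pullback (p j)).obj F₀) z := by
    rintro ⟨U, hU⟩
    have eU : U ≤ g₀ ⁻¹ᵁ (⊤ : (D.obj i₀).Opens) := le_top
    let _ := (g₀.appLE ⊤ U eU).hom.toAlgebra
    let _ := QcohFlat.overModule g₀ F₀ ⊤ U eU
    have : IsScalarTower Γ(D.obj i₀, ⊤) Γ(Z₀, U) Γ(F₀, U) := .of_algebraMap_smul fun _ _ => rfl
    have : Algebra.FinitePresentation Γ(D.obj i₀, ⊤) Γ(Z₀, U) := g₀.finitePresentation_appLE hV hU eU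
    have := QcohFP.finitePresentation_sections F₀ hF hU
    have := InjFibre.isQCoh_pullback q F₀
    have hW := InjFibre.isAffineOpen_inf_preimage sq hV hU (hV.preimage π₀) eU le_rfl
    have hfl : Module.Flat Γ((c.whisker (Over.forget i₀)).pt, π₀ ⁻¹ᵁ ⊤)
        (Γ((c.whisker (Over.forget i₀)).pt, π₀ ⁻¹ᵁ ⊤) ⊗[Γ(D.obj i₀, ⊤)] Γ(F₀, U)) := by
      let _ : Algebra Γ(D.obj i₀, ⊤) Γ(c.pt, π₀ ⁻¹ᵁ ⊤) := (π₀.appLE ⊤ (π₀ ⁻¹ᵁ ⊤) le_rfl).hom.toAlgebra
      let W' := q ⁻¹ᵁ U ⊓ g ⁻¹ᵁ (π₀ ⁻¹ᵁ ⊤)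
      let P := (Scheme.Modules.pullback q).obj F₀
      let _ : Module Γ(c.pt, π₀ ⁻¹ᵁ ⊤) Γ(P, W') := QcohFlat.overModule g P (π₀ ⁻¹ᵁ ⊤) W' inf_le_right
      let _ : Module Γ(D.obj i₀, ⊤) Γ(P, W') := Module.compHom _
        ((q.appLE U W' inf_le_left).hom.comp (g₀.appLE ⊤ U eU).hom)
      obtain ⟨-, _, _, μ, -, hμ, -, -, -, -⟩ := InjFibre.exists_baseChange_data sq (𝟙 F₀) hV hU
        (hV.preimage π₀) eU le_rfl (W := W') rfl hW
      have : Module.Flat Γ(c.pt, π₀ ⁻¹ᵁ ⊤) Γ(P, W') :=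
        (Props12.flat_sections_iff g P (hV.preimage π₀) hW inf_le_right).2 fun x _ => h x
      exact (Module.Flat.of_linearEquiv hμ.equiv :
        Module.Flat Γ(c.pt, π₀ ⁻¹ᵁ ⊤) (Γ(c.pt, π₀ ⁻¹ᵁ ⊤) ⊗[Γ(D.obj i₀, ⊤)] Γ(F₀, U)))
    obtain ⟨j, hj⟩ := exists_flat_stage_module hs (B₀ := Γ(Z₀, U)) Γ(F₀, U)
    refine ⟨j, fun z hz => ?_⟩
    have sqj : IsPullback (p j) (pullback.snd g₀ (D.map j.hom)) g₀ (a j) := IsPullback.of_hasPullback _ _
    have := InjFibre.isQCoh_pullback (p j) F₀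
    have hWj := InjFibre.isAffineOpen_inf_preimage sqj hV hU (hV.preimage (a j)) eU le_rfl
    let _ : Algebra Γ(D.obj i₀, ⊤) Γ(D.obj j.left, a j ⁻¹ᵁ ⊤) :=
      ((a j).appLE ⊤ (a j ⁻¹ᵁ ⊤) le_rfl).hom.toAlgebra
    let W' := p j ⁻¹ᵁ U ⊓ pullback.snd g₀ (D.map j.hom) ⁻¹ᵁ (a j ⁻¹ᵁ ⊤)
    let P := (Scheme.Modules.pullback (p j)).obj F₀
    let _ : Module Γ(D.obj j.left, a j ⁻¹ᵁ ⊤) Γ(P, W') :=
      QcohFlat.overModule (pullback.snd g₀ (D.map j.hom)) P (a j ⁻¹ᵁ ⊤) W' inf_le_right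
    let _ : Module Γ(D.obj i₀, ⊤) Γ(P, W') := Module.compHom _
      (((p j).appLE U W' inf_le_left).hom.comp (g₀.appLE ⊤ U eU).hom)
    obtain ⟨-, _, _, μ, -, hμ, -, -, -, -⟩ := InjFibre.exists_baseChange_data sqj (𝟙 F₀) hV hU
      (hV.preimage (a j)) eU le_rfl (W := W') rfl hWj
    have : Module.Flat Γ(D.obj j.left, a j ⁻¹ᵁ ⊤)
        (Γ(D.obj j.left, a j ⁻¹ᵁ ⊤) ⊗[Γ(D.obj i₀, ⊤)] Γ(F₀, U)) := hj
    exact (Props12.flat_sections_iff _ P (hV.preimage (a j)) hWj inf_le_right).1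
      (Module.Flat.of_linearEquiv hμ.equiv.symm) z ⟨hz, trivial⟩
  choose J hJ using key
  obtain ⟨t, ht⟩ := isCompact_univ.elim_finite_subcover (fun U : Z₀.affineOpens => (U.1 : Set Z₀))
    (fun U => U.1.isOpen) fun z _ => by
      obtain ⟨V, hV, hzV, -⟩ := exists_isAffineOpen_mem_and_subset (x := z) (U := ⊤) trivial
      exact Set.mem_iUnion.2 ⟨⟨V, hV⟩, hzV⟩
  obtain ⟨j, hj⟩ := IsCofiltered.inf_objs_exists (t.image J)
  refine ⟨j, fun z => ?_⟩
  obtain ⟨U, hUt, hzU⟩ := Set.mem_iUnion₂.1 (ht (Set.mem_univ (p j z)))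
  obtain ⟨ψ⟩ := hj (Finset.mem_image_of_mem J hUt)
  have h1 : p (J U) (E.map ψ z) ∈ U.1 := by
    rw [← Scheme.Hom.comp_apply, hp]
    exact hzU
  exact DvrCrit.isFlatOverAt_of_iso _
    ((Scheme.Modules.pullbackComp (E.map ψ) (p (J U)) ≪≫ Scheme.Modules.pullbackCongr (hp ψ)).app F₀) z
    (Desc19b.isFlatOverAt_baseChange _ _ _ _ (Limit.stage_isPullback D g₀ ψ) _ z (hJ U _ h1))

end FlatStage

section FlatOver

variable {X S : Scheme.{u}} (f : X ⟶ S) (F : X.Modules)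

theorem exists_flat_cond_stage [QuasiCompact f] [LocallyOfFinitePresentation f] [Coh.IsQCoh F]
    (hF : CohB1.IsFP F) {I : Type u} [SmallCategory I] [IsCofiltered I]
    (D : I ⥤ Over S) (c : Cone D) (hc : IsLimit ((Over.forget S).mapCone c))
    (hD : ∀ i, IsAffine (D.obj i).left) (hT : IsAffine c.pt.left)
    (h : FlatMod.IsFlatOver (PicF.XTproj f c.pt) (FGA.ET f F c.pt)) :
    ∃ i, FlatMod.IsFlatOver (PicF.XTproj f (D.obj i)) (FGA.ET f F (D.obj i)) := by
  obtain ⟨i₀⟩ := (IsCofiltered.nonempty : Nonempty I)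
  have : ∀ i, IsAffine ((D ⋙ Over.forget S).obj i) := hD
  have : ∀ {i j : I} (φ : i ⟶ j), IsAffineHom ((D ⋙ Over.forget S).map φ) := fun φ => inferInstance
  have : IsAffine ((Over.forget S).mapCone c).pt := hT
  have : IsAffine (D.obj i₀).left := hD i₀
  have : CompactSpace (PicF.XT f (D.obj i₀)) :=
    QuasiCompact.compactSpace_of_compactSpace (PicF.XTproj f (D.obj i₀))
  have := InjFibre.isQCoh_pullback (pullback.fst f (D.obj i₀).hom) F
  have hF₀ : CohB1.IsFP (FGA.ET f F (D.obj i₀)) := Desc19b.ModStFib.isFP_pullback _ F hF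
  obtain ⟨j, hj⟩ := exists_flat_stage_scheme (D := D ⋙ Over.forget S) (c := (Over.forget S).mapCone c)
    (g₀ := PicF.XTproj f (D.obj i₀)) hc (isPullback_XTmap f (c.π.app i₀)) hF₀
    (fun x => DvrCrit.isFlatOverAt_of_iso _ (FGA.ETiso f F (c.π.app i₀)).symm x (h x))
  refine ⟨j.left, fun x => ?_⟩
  have sq' := isPullback_XTmap f (D.map j.hom)
  have e : sq'.isoPullback.hom ≫ pullback.fst _ _ = PicF.XTmap f (D.map j.hom) :=
    IsPullback.isoPullback_hom_fst _
  have hsq : IsPullback sq'.isoPullback.hom (PicF.XTproj f (D.obj j.left))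
      (pullback.snd (PicF.XTproj f (D.obj i₀)) (D.map j.hom).left) (𝟙 _) :=
    IsPullback.of_horiz_isIso ⟨by rw [IsPullback.isoPullback_hom_snd, Category.comp_id]⟩
  refine DvrCrit.isFlatOverAt_of_iso _ (((Scheme.Modules.pullbackComp sq'.isoPullback.hom
    (pullback.fst (PicF.XTproj f (D.obj i₀)) (D.map j.hom).left) ≪≫
    Scheme.Modules.pullbackCongr e).app _) ≪≫ FGA.ETiso f F (D.map j.hom)) x ?_
  exact Desc19b.isFlatOverAt_baseChange _ _ _ _ hsq _ x (hj _)

end FlatOver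

/-- Limit preservation from stability and descent to a stage. -/
theorem isLimitPreserving_genPSp {S : Scheme.{u}} (P : Over S → Prop)
    (hst : ∀ {T T₀ : Over S} (_ : T ⟶ T₀), P T₀ → P T)
    (hex : ∀ {I : Type u} [SmallCategory I] [IsCofiltered I] (D : I ⥤ Over S) (c : Cone D),
      IsLimit ((Over.forget S).mapCone c) → (∀ i, IsAffine (D.obj i).left) → IsAffine c.pt.left →
        P c.pt → ∃ i, P (D.obj i)) :
    AlgSp.IsLimitPreserving (FlatFun.genPSp S P) := by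
  intro I _ _ D c hc hD hT
  refine ⟨Types.FilteredColimit.isColimitOf _ _ (fun x => ?_) fun i j xi xj _ => ?_⟩
  · obtain ⟨T₀, g, hP⟩ := (x : ULift.{u + 1} (PLift _)).down.down
    obtain ⟨i, hi⟩ := hex D c hc hD hT (hst g hP)
    refine ⟨op i, ⟨⟨⟨D.obj i, 𝟙 _, hi⟩⟩⟩, ?_⟩
    exact (FlatFun.genPSp_subsingleton S P (op c.pt)).elim _ _
  · exact ⟨IsFiltered.max i j, IsFiltered.leftToMax i j, IsFiltered.rightToMax i j,
      (FlatFun.genPSp_subsingleton S P (op (D.obj (IsFiltered.max i j).unop))).elim _ _⟩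

end Groth.Agent.FlatMor12.FlatFun
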