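import Groth.Agent.FlatMor12.FlatFun.GenPts
import Groth.Agent.FlatMor12.FlatFun.Stage
import Groth.Agent.H8Lim.ModHomDescent
import Groth.Agent.H8Lim.Topology
import Groth.Agent.Props12.FinLocFree

/-!
# Freeness near generic points of fibres descends to a stage
-/

set_option autoImplicit false
set_option backward.isDefEq.respectTransparency false

universe u

open CategoryTheory Limits AlgebraicGeometry Opposite TopologicalSpace

namespace Groth.Agent.FlatMor12.FlatFun

open Groth.Agent.EGA43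

variable {I : Type u} [SmallCategory I] [IsCofiltered I] {E : I ⥤ Scheme.{u}} {c : Cone E}
  [∀ {i j : I} (φ : i ⟶ j), IsAffineHom (E.map φ)]

theorem isFinLocFree_freeMod (X : Scheme.{u}) (p : ℕ) : FlatMod.IsFinLocFree (FlatMod.freeMod X p) :=
  fun x => by
    obtain ⟨U, hx, e⟩ := freeNear_of_free (Iso.refl (FlatMod.freeMod X p)) x
    exact ⟨U, p, hx, e⟩

theorem exists_freeNear_stage (hc : IsLimit c) {i : I} (M : (E.obj i).Modules) [Coh.IsQCoh M]
    (hM : CohB1.IsFP M) (p : ℕ) (x : c.pt)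
    (h : FlatFun.IsFreeOfRankNear ((Scheme.Modules.pullback (c.π.app i)).obj M) p x) :
    ∃ (k : I) (φ : k ⟶ i),
      FlatFun.IsFreeOfRankNear ((Scheme.Modules.pullback (E.map φ)).obj M) p (c.π.app k x) := by
  obtain ⟨U, hxU, ⟨eU⟩⟩ := h
  obtain ⟨a, V₀, hV₀, hxV₀, hVU⟩ := H8Lim.exists_mem_preimage_subset hc U.2 hxU
  let b := IsCofiltered.min i a
  let α : b ⟶ i := IsCofiltered.minToLeft i a
  let V : (E.obj b).Opens := E.map (IsCofiltered.minToRight i a) ⁻¹ᵁ V₀
  have hV : IsAffineOpen V := hV₀.preimage _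
  let πb := c.π.app b
  let V' : c.pt.Opens := πb ⁻¹ᵁ V
  have hxV : x ∈ V' := by
    show E.map _ (c.π.app b x) ∈ V₀
    rw [← Scheme.Hom.comp_apply, c.w]
    exact hxV₀
  have hV'U : V' ≤ U := fun y hy => hVU (by
    show c.π.app a y ∈ V₀
    rw [← c.w (IsCofiltered.minToRight i a), Scheme.Hom.comp_apply]
    exact hy)
  let Es := Limit.stage E V.ι
  let sq := isPullback_morphismRestrict πb V
  let cs := Limit.stageCone E c V.ι sq
  have hcs := Limit.isLimitStageCone E c V.ι sq hc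
  let i' : Over b := Over.mk (𝟙 b)
  have : IsIso (E.map i'.hom) := by
    show IsIso (E.map (𝟙 b))
    rw [E.map_id]
    infer_instance
  have : IsAffine V.toScheme := hV
  have : IsAffine (Es.obj i') := IsAffine.of_isIso (pullback.fst V.ι (E.map i'.hom))
  let Mb := (Scheme.Modules.pullback (E.map α)).obj M
  let r := pullback.fst V.ι (E.map i'.hom)
  have := InjFibre.isQCoh_pullback (E.map α) M
  let MV := (Scheme.Modules.pullback r).obj ((Scheme.Modules.pullback V.ι).obj Mb)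
  have := InjFibre.isQCoh_pullback V.ι Mb
  have := InjFibre.isQCoh_pullback r ((Scheme.Modules.pullback V.ι).obj Mb)
  have hMV : CohB1.IsFP MV := Desc19b.ModStFib.isFP_pullback r _
    (Desc19b.ModStFib.isFP_pullback V.ι Mb (Desc19b.ModStFib.isFP_pullback (E.map α) M hM))
  let N := FlatMod.freeMod (Es.obj i') p
  have : Coh.IsQCoh N := DCat.PullPerf.isQCoh_of_finLocFree (isFinLocFree_freeMod _ p)
  have hN : CohB1.IsFP N := Props12.isFP_of_isFinLocFree N (isFinLocFree_freeMod _ p)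
  have w : cs.π.app i' ≫ r ≫ V.ι ≫ E.map α = V'.ι ≫ c.π.app i := by
    have e : cs.π.app i' ≫ r = πb ∣_ V := pullback.lift_fst _ _ _
    rw [← Category.assoc, e, ← Category.assoc, morphismRestrict_ι, Category.assoc, c.w]
  let P := (Scheme.Modules.pullback (c.π.app i)).obj M
  let j' := c.pt.homOfLE hV'U
  obtain ⟨e1⟩ := nonempty_pullback_freeMod j' p
  obtain ⟨e2⟩ := nonempty_pullback_freeMod (cs.π.app i') p
  have eV : (Scheme.Modules.pullback V'.ι).obj P ≅ FlatMod.freeMod V'.toScheme p :=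
    ((Scheme.Modules.pullbackCongr (c.pt.homOfLE_ι hV'U)).symm ≪≫ (Scheme.Modules.pullbackComp j' U.ι).symm).app P ≪≫
      (Scheme.Modules.pullback j').mapIso ((Scheme.Modules.restrictFunctorIsoPullback U.ι).symm.app P ≪≫ eU) ≪≫ e1
  have eiso : Nonempty ((Scheme.Modules.pullback (cs.π.app i')).obj MV ≅
      (Scheme.Modules.pullback (cs.π.app i')).obj N) :=
    ⟨(Scheme.Modules.pullback (cs.π.app i')).mapIso
        ((Scheme.Modules.pullback r).mapIso ((Scheme.Modules.pullbackComp V.ι (E.map α)).app M) ≪≫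
          (Scheme.Modules.pullbackComp r (V.ι ≫ E.map α)).app M) ≪≫
      (Scheme.Modules.pullbackComp (cs.π.app i') (r ≫ V.ι ≫ E.map α) ≪≫ Scheme.Modules.pullbackCongr w ≪≫
        (Scheme.Modules.pullbackComp V'.ι (c.π.app i)).symm).app M ≪≫ eV ≪≫ e2.symm⟩
  obtain ⟨k, ψ, ⟨e3⟩⟩ := (H8Lim.nonempty_iso_iff_eventually (D := Es) (c := cs) hcs (i := i') MV N hMV hN).1 eiso
  obtain ⟨e4⟩ := nonempty_pullback_freeMod (Es.map ψ) p
  refine ⟨k.left, k.hom ≫ α, ?_⟩
  let q := pullback.snd V.ι (E.map k.hom)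
  have hq : cs.π.app k ≫ q = V'.ι ≫ c.π.app k.left := pullback.lift_snd _ _ _
  have h5 : Es.map ψ ≫ r ≫ V.ι ≫ E.map α = q ≫ E.map (k.hom ≫ α) := by
    rw [← Category.assoc (Es.map ψ), Limit.stage_map_fst, ← Category.assoc, pullback.condition,
      Category.assoc, E.map_comp]
  have h6 : FlatFun.IsFreeOfRankNear ((Scheme.Modules.pullback q).obj ((Scheme.Modules.pullback (E.map (k.hom ≫ α))).obj M))
      p (cs.π.app k ⟨x, hxV⟩) := by
    refine freeNear_of_iso ?_ (freeNear_of_free (e3 ≪≫ e4) _)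
    exact (Scheme.Modules.pullback (Es.map ψ)).mapIso
        ((Scheme.Modules.pullback r).mapIso ((Scheme.Modules.pullbackComp V.ι (E.map α)).app M) ≪≫
          (Scheme.Modules.pullbackComp r (V.ι ≫ E.map α)).app M) ≪≫
      (Scheme.Modules.pullbackComp (Es.map ψ) (r ≫ V.ι ≫ E.map α) ≪≫ Scheme.Modules.pullbackCongr h5 ≪≫
        (Scheme.Modules.pullbackComp q (E.map (k.hom ≫ α))).symm).app M
  have h7 := freeNear_of_openImmersion q h6
  have h8 : q (cs.π.app k ⟨x, hxV⟩) = c.π.app k.left x := by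
    show (cs.π.app k ≫ q) ⟨x, hxV⟩ = _
    rw [hq]
    rfl
  exact h8 ▸ h7

variable {X S : Scheme.{u}} (f : X ⟶ S) [Smooth f] [GeometricallyIrreducible f]
  (F : X.Modules) [Coh.IsQCoh F]

theorem exists_genPts_cond_stage (hF : CohB1.IsFP F) (p : ℕ) {J : Type u} [SmallCategory J] [IsCofiltered J]
    (D : J ⥤ Over S) (cD : Cone D) (hcD : IsLimit ((Over.forget S).mapCone cD))
    (hD : ∀ i, IsAffine (D.obj i).left) (hT : IsAffine cD.pt.left)
    (h : FlatFun.FreeAtGenericPts (PicF.XTproj f cD.pt) (FGA.ET f F cD.pt) p) :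
    ∃ i, FlatFun.FreeAtGenericPts (PicF.XTproj f (D.obj i)) (FGA.ET f F (D.obj i)) p := by
  obtain ⟨i₀⟩ := (IsCofiltered.nonempty : Nonempty J)
  let D' := D ⋙ Over.forget S
  let c' := (Over.forget S).mapCone cD
  have : ∀ i, IsAffine (D'.obj i) := hD
  have : ∀ {i j : J} (φ : i ⟶ j), IsAffineHom (D'.map φ) := fun φ => inferInstance
  let g₀ := PicF.XTproj f (D.obj i₀)
  have : LocallyOfFinitePresentation g₀ :=
    inferInstanceAs (LocallyOfFinitePresentation (pullback.snd f (D.obj i₀).hom))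
  have : Flat g₀ := inferInstanceAs (Flat (pullback.snd f (D.obj i₀).hom))
  have sq := isPullback_XTmap f (cD.π.app i₀)
  let E' := Limit.stage D' g₀
  let cE := Limit.stageCone D' c' g₀ sq
  have hcE : IsLimit cE := Limit.isLimitStageCone D' c' g₀ sq hcD
  let gs : ∀ j : Over i₀, E'.obj j ⟶ D'.obj j.left := fun j => pullback.snd g₀ (D'.map j.hom)
  let ps : ∀ j : Over i₀, E'.obj j ⟶ PicF.XT f (D.obj i₀) := fun j => pullback.fst g₀ (D'.map j.hom)
  let F₀ := FGA.ET f F (D.obj i₀)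
  have := InjFibre.isQCoh_pullback (pullback.fst f (D.obj i₀).hom) F
  have hF₀ : CohB1.IsFP F₀ := Desc19b.ModStFib.isFP_pullback _ F hF
  let Wj : ∀ j : Over i₀, Set (E'.obj j) := fun j =>
    {z | FlatFun.IsFreeOfRankNear ((Scheme.Modules.pullback (ps j)).obj F₀) p z}
  suffices ∃ j : Over i₀, ∀ t, t ∈ gs j '' Wj j by
    obtain ⟨j, hj⟩ := this
    refine ⟨j.left, (freeAtGenericPts_iff _ _ _).2 fun t => ?_⟩
    obtain ⟨z, hz, hzt⟩ := hj t
    have sq' := isPullback_XTmap f (D.map j.hom)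
    have h1 : sq'.isoPullback.inv ≫ PicF.XTmap f (D.map j.hom) = ps j := sq'.isoPullback_inv_fst
    have h2 : sq'.isoPullback.inv ≫ PicF.XTproj f (D.obj j.left) = gs j := sq'.isoPullback_inv_snd
    refine ⟨sq'.isoPullback.inv z, by rw [← hzt, ← Scheme.Hom.comp_apply, h2]; rfl, ?_⟩
    refine freeNear_of_openImmersion sq'.isoPullback.inv (freeNear_of_iso ?_ hz)
    exact ((Scheme.Modules.pullbackCongr h1).symm ≪≫ (Scheme.Modules.pullbackComp _ _).symm).app F₀ ≪≫
      (Scheme.Modules.pullback sq'.isoPullback.inv).mapIso (FGA.ETiso f F (D.map j.hom))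
  by_contra hcon
  push Not at hcon
  have hopen : ∀ j, IsOpen (gs j '' Wj j) := fun j => by
    have : LocallyOfFinitePresentation (gs j) :=
      inferInstanceAs (LocallyOfFinitePresentation (pullback.snd g₀ (D'.map j.hom)))
    have : Flat (gs j) := inferInstanceAs (Flat (pullback.snd g₀ (D'.map j.hom)))
    exact (gs j).isOpenMap _ (isOpen_freeNear _ p)
  have hcD' : IsLimit (c'.whisker (Over.forget i₀)) :=
    (Functor.Initial.isLimitWhiskerEquiv (Over.forget i₀) c').symm hcD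
  have : ∀ {i j : Over i₀} (φ : i ⟶ j), IsAffineHom ((Over.forget i₀ ⋙ D').map φ) := fun φ =>
    inferInstanceAs (IsAffineHom (D'.map φ.left))
  obtain ⟨s, hs⟩ := AlgebraicGeometry.exists_mem_of_isClosed_of_nonempty (Over.forget i₀ ⋙ D') _ hcD'
    (fun j => (gs j '' Wj j)ᶜ) (fun j => (hopen j).isClosed_compl)
    (fun j => by obtain ⟨t, ht⟩ := hcon j; exact ⟨t, ht⟩)
    (fun j => by
      haveI : CompactSpace (D'.obj j.left) := inferInstance
      exact (hopen j).isClosed_compl.isCompact)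
    (fun {i j} φ t ht => by
      rintro ⟨z, hz, hzt⟩
      have sqφ := Limit.stage_isPullback D' g₀ φ
      obtain ⟨w, hw1, hw2⟩ := Scheme.Pullback.exists_preimage_pullback (f := gs j) (g := D'.map φ.left) z t hzt
      refine ht ⟨sqφ.isoPullback.inv w, ?_, by rw [← Scheme.Hom.comp_apply, sqφ.isoPullback_inv_snd, hw2]⟩
      have h1 : E'.map φ (sqφ.isoPullback.inv w) = z := by
        rw [← Scheme.Hom.comp_apply, sqφ.isoPullback_inv_fst, hw1]
      exact freeNear_of_iso ((Scheme.Modules.pullbackComp (E'.map φ) (ps j) ≪≫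
        Scheme.Modules.pullbackCongr (Limit.stage_map_fst D' g₀ φ)).app F₀) (freeNear_pullback _ (h1.symm ▸ hz)))
  rw [freeAtGenericPts_iff] at h
  obtain ⟨x, hx, hfx⟩ := h s
  let j₀ : Over i₀ := Over.mk (𝟙 i₀)
  have := InjFibre.isQCoh_pullback (ps j₀) F₀
  obtain ⟨k, φ, hk⟩ := exists_freeNear_stage (E := E') (c := cE) hcE ((Scheme.Modules.pullback (ps j₀)).obj F₀)
    (Desc19b.ModStFib.isFP_pullback (ps j₀) F₀ hF₀) p x
    (freeNear_of_iso ((FGA.ETiso f F (cD.π.app i₀)).symm ≪≫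
      ((Scheme.Modules.pullbackCongr (pullback.lift_fst _ _ _)).symm ≪≫
        (Scheme.Modules.pullbackComp (cE.π.app j₀) (ps j₀)).symm).app F₀) hfx)
  refine hs k ⟨cE.π.app k x, freeNear_of_iso ((Scheme.Modules.pullbackComp (E'.map φ) (ps j₀) ≪≫
    Scheme.Modules.pullbackCongr (Limit.stage_map_fst D' g₀ φ)).app F₀) hk, ?_⟩
  show gs k (cE.π.app k x) = c'.π.app k.left s
  rw [← Scheme.Hom.comp_apply, (Limit.stageCone_isPullback D' c' g₀ sq k).w, Scheme.Hom.comp_apply]
  exact congrArg _ hx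

end Groth.Agent.FlatMor12.FlatFun
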