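import Groth.Agent.FlatMor12.FlatFun.Sheaf
import Groth.Agent.DCat.PullPerf
import Groth.Prelude.Def_FlatFun

/-!
# Free of given rank near a point; generic points of fibres
-/

set_option autoImplicit false
set_option backward.isDefEq.respectTransparency false

universe u

open CategoryTheory Limits AlgebraicGeometry Opposite

namespace Groth.Agent.FlatMor12.FlatFun

variable {X Y T : Scheme.{u}}

/-- Pullback of a finite free module. -/
theorem nonempty_pullback_freeMod (h : Y ⟶ X) (p : ℕ) :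
    Nonempty ((Scheme.Modules.pullback h).obj (FlatMod.freeMod X p) ≅ FlatMod.freeMod Y p) := by
  haveI := (Scheme.Modules.pullbackPushforwardAdjunction h).leftAdjoint_preservesColimits
  obtain ⟨e₁⟩ := AmpleLib.exists_pullStructureIso h
  exact ⟨PreservesCoproduct.iso (Scheme.Modules.pullback h) _ ≪≫ Sigma.mapIso fun _ => e₁⟩

theorem freeNear_of_iso {M N : X.Modules} (e : M ≅ N) {p : ℕ} {x : X}
    (h : FlatFun.IsFreeOfRankNear M p x) : FlatFun.IsFreeOfRankNear N p x := by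
  obtain ⟨U, hx, ⟨f⟩⟩ := h
  exact ⟨U, hx, ⟨(Scheme.Modules.restrictFunctor U.ι).mapIso e.symm ≪≫ f⟩⟩

theorem freeNear_pullback (h : Y ⟶ X) {M : X.Modules} {p : ℕ} {y : Y}
    (hy : FlatFun.IsFreeOfRankNear M p (h y)) :
    FlatFun.IsFreeOfRankNear ((Scheme.Modules.pullback h).obj M) p y := by
  obtain ⟨V, hV, ⟨e⟩⟩ := hy
  obtain ⟨e₂⟩ := nonempty_pullback_freeMod (h ∣_ V) p
  exact ⟨h ⁻¹ᵁ V, hV, ⟨(DCat.PullPerf.pullRestrict h V).app M ≪≫ (Scheme.Modules.pullback (h ∣_ V)).mapIso e ≪≫ e₂⟩⟩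

theorem freeNear_of_free {M : X.Modules} {p : ℕ} (e : M ≅ FlatMod.freeMod X p) (x : X) :
    FlatFun.IsFreeOfRankNear M p x := by
  obtain ⟨e'⟩ := nonempty_pullback_freeMod (⊤ : X.Opens).ι p
  exact ⟨⊤, trivial, ⟨(Scheme.Modules.restrictFunctorIsoPullback _).app M ≪≫
    (Scheme.Modules.pullback (⊤ : X.Opens).ι).mapIso e ≪≫ e'⟩⟩

/-- Being free near a point can be tested on an open subscheme. -/
theorem freeNear_of_openImmersion (j : Y ⟶ X) [IsOpenImmersion j] {M : X.Modules} {p : ℕ} {y : Y}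
    (h : FlatFun.IsFreeOfRankNear ((Scheme.Modules.pullback j).obj M) p y) :
    FlatFun.IsFreeOfRankNear M p (j y) := by
  obtain ⟨U, hy, ⟨e⟩⟩ := h
  let V : X.Opens := j ''ᵁ U
  let i : U.toScheme ≅ V.toScheme := IsOpenImmersion.isoOfRangeEq (U.ι ≫ j) V.ι (by
    rw [Scheme.Opens.range_ι]
    show Set.range (j.base ∘ U.ι.base) = _
    rw [Set.range_comp, Scheme.Opens.range_ι]
    rfl)
  obtain ⟨e'⟩ := nonempty_pullback_freeMod i.inv p
  have w : i.inv ≫ U.ι ≫ j = V.ι := IsOpenImmersion.isoOfRangeEq_inv_fac _ _ _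
  exact ⟨V, ⟨y, hy, rfl⟩, ⟨(Scheme.Modules.restrictFunctorIsoPullback V.ι).app M ≪≫
    ((Scheme.Modules.pullbackCongr w).symm ≪≫ (Scheme.Modules.pullbackComp i.inv (U.ι ≫ j)).symm).app M ≪≫
    (Scheme.Modules.pullback i.inv).mapIso ((Scheme.Modules.pullbackComp U.ι j).symm.app M ≪≫
      ((Scheme.Modules.restrictFunctorIsoPullback U.ι).symm.app _) ≪≫ e) ≪≫ e'⟩⟩

theorem isOpen_freeNear (M : X.Modules) (p : ℕ) : IsOpen {x | FlatFun.IsFreeOfRankNear M p x} :=
  isOpen_iff_forall_mem_open.2 fun _ ⟨U, hx, e⟩ => ⟨U, fun _ hy => ⟨U, hy, e⟩, U.2, hx⟩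

/-- With irreducible fibres it suffices to be free near some point of every fibre. -/
theorem freeAtGenericPts_iff (q : X ⟶ T) [GeometricallyIrreducible q] (M : X.Modules) (p : ℕ) :
    FlatFun.FreeAtGenericPts q M p ↔ ∀ t : T, ∃ x, q x = t ∧ FlatFun.IsFreeOfRankNear M p x := by
  refine ⟨fun h t => let ⟨x, h1, _, h3⟩ := h t; ⟨x, h1, h3⟩, fun h t => ?_⟩
  obtain ⟨x, hx, U, hxU, e⟩ := h t
  let η := q.fiberι t (genericPoint (q.fiber t))
  have hη : q η = t := (q.range_fiberι t).le ⟨_, rfl⟩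
  have hgen : ∀ x', q x' = t → η ⤳ x' := fun x' hx' => by
    obtain ⟨a, rfl⟩ := (q.range_fiberι t).ge hx'
    exact (genericPoint_specializes a).map (q.fiberι t).continuous
  exact ⟨η, hη, fun x' hx' => hgen x' (hx'.trans hη), U, (hgen x hx).mem_open U.2 hxU, e⟩

section Functor

variable {S X : Scheme.{u}} (f : X ⟶ S) [GeometricallyIrreducible f] (F : X.Modules) (p : ℕ)

instance geometricallyIrreducible_XTproj (T : Over S) : GeometricallyIrreducible (PicF.XTproj f T) :=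
  inferInstanceAs (GeometricallyIrreducible (pullback.snd f T.hom))

theorem genPts_stable {T T₀ : Over S} (g : T ⟶ T₀)
    (h : FlatFun.FreeAtGenericPts (PicF.XTproj f T₀) (FGA.ET f F T₀) p) :
    FlatFun.FreeAtGenericPts (PicF.XTproj f T) (FGA.ET f F T) p := by
  rw [freeAtGenericPts_iff] at h ⊢
  intro t
  obtain ⟨x₀, hx₀, hf⟩ := h (g.left t)
  have sq := isPullback_XTmap f g
  obtain ⟨z, hz1, hz2⟩ := Scheme.Pullback.exists_preimage_pullback (f := PicF.XTproj f T₀) (g := g.left)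
    x₀ t hx₀
  have h1 : PicF.XTmap f g (sq.isoPullback.inv z) = x₀ := by
    rw [← Scheme.Hom.comp_apply, sq.isoPullback_inv_fst, hz1]
  refine ⟨sq.isoPullback.inv z, by rw [← Scheme.Hom.comp_apply, sq.isoPullback_inv_snd, hz2], ?_⟩
  exact freeNear_of_iso (FGA.ETiso f F g) (freeNear_pullback _ (h1 ▸ hf))

end Functor

end Groth.Agent.FlatMor12.FlatFun
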