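import Groth.Agent.FlatMor12.FlatFun.GenPts
import Groth.Agent.FlatMor12.FreeLocusBC
import Groth.Agent.FlatMor12.SmoothCut
import Groth.Agent.FlatMorSlice.Regular
import Groth.Agent.Props12.FinLocFree
import Groth.Agent.Coherent.SupportPullback

/-!
# Freeness near generic points of fibres descends along fpqc families, for modules of finite type
-/

set_option autoImplicit false
set_option backward.isDefEq.respectTransparency false

universe u

open CategoryTheory Limits AlgebraicGeometry Opposite TopologicalSpace TensorProduct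

namespace Groth.Agent.FlatMor12.FlatFun

open Groth.Agent.EGA43

/-- In a smooth algebra a section is zero when it is killed, near every point, by a function not
vanishing at a more generic point of the same fibre. -/
theorem eq_zero_of_fibrewise {A B : Type u} [CommRing A] [CommRing B] [Algebra A B] [Algebra.Smooth A B]
    (a : B) (h : ∀ Q : PrimeSpectrum B, ∃ (g : B) (Q' : PrimeSpectrum B), Q'.asIdeal ≤ Q.asIdeal ∧
      Q'.asIdeal.comap (algebraMap A B) = Q.asIdeal.comap (algebraMap A B) ∧ g ∉ Q'.asIdeal ∧ g * a = 0) :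
    a = 0 := by
  by_contra ha
  obtain ⟨M, hM, hle⟩ := Ideal.exists_le_maximal (Ideal.torsionOf B B a)
    (by rwa [Ne, Ideal.torsionOf_eq_top_iff])
  haveI := hM.isPrime
  let Q : PrimeSpectrum B := ⟨M, inferInstance⟩
  obtain ⟨g, Q', hQ', hp, hg, hga⟩ := h Q
  obtain ⟨R, _, _, ψ, hψ⟩ := smooth_fibre_domain (A := A) M
  have hψg : ψ g ≠ 0 := fun h0 => by
    obtain ⟨t, ht, htg⟩ := hψ.ker g h0
    have : t * g ∈ Q'.asIdeal := by
      have hle : (M.comap (algebraMap A B)).map (algebraMap A B) ≤ Q'.asIdeal :=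
        Ideal.map_le_iff_le_comap.2 hp.ge
      exact hle htg
    exact (Q'.isPrime.mem_or_mem this).elim (fun ht' => ht (hQ' ht')) hg
  obtain ⟨c, hc, hkill, -⟩ := FlatMorSlice.exists_regular_step (A := A) (M := B) g Q inferInstance
    (fun m ⟨d, hd, hdm⟩ => by
      rw [Ideal.smul_top_eq_map, Submodule.restrictScalars_mem] at hdm
      have h0 : ψ d * (ψ g * ψ m) = 0 := by
        rw [← map_mul, ← map_mul]
        exact hψ.le_ker hdm
      have hm : ψ m = 0 := ((mul_eq_zero.1 ((hψ.unit d hd).mul_right_eq_zero.1 h0)).resolve_left hψg)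
      obtain ⟨t, ht, htm⟩ := hψ.ker m hm
      refine ⟨t, ht, ?_⟩
      rw [Ideal.smul_top_eq_map, Submodule.restrictScalars_mem]
      exact htm)
  obtain ⟨k, hk⟩ := hkill a hga
  exact hc (hM.isPrime.mem_of_pow_mem k (hle ((Ideal.mem_torsionOf_iff a _).2 hk)))

variable {X : Scheme.{u}}

theorem exists_basis_stalk_of_freeNear (M : X.Modules) [Coh.IsQCoh M] {p : ℕ} {x : X}
    (h : FlatFun.IsFreeOfRankNear M p x) :
    Nonempty (Module.Basis (Fin p) (X.presheaf.stalk x) (M.presheaf.stalk x)) := by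
  obtain ⟨V, hxV, ⟨e⟩⟩ := h
  obtain ⟨U, hU, hxU, hUV⟩ := Opens.isBasis_iff_nbhd.mp X.isBasis_affineOpens hxV
  obtain ⟨b⟩ := Props12.exists_basis_sections e hUV
  let _ := (X.presheaf.germ U x hxU).hom.toAlgebra
  let _ := Module.compHom (M.presheaf.stalk x) (X.presheaf.germ U x hxU).hom
  have : IsScalarTower Γ(X, U) (X.presheaf.stalk x) (M.presheaf.stalk x) :=
    IsScalarTower.of_algebraMap_smul fun _ _ => rfl
  let φ : Γ(M, U) →ₗ[Γ(X, U)] M.presheaf.stalk x :=
    { toFun := M.presheaf.germ U x hxU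
      map_add' := map_add _
      map_smul' := QCohLoc.germ_smul' (M := M) hxU }
  have := EGA43.QcohFP.isLocalizedModule_germ M hU hxU φ fun _ => rfl
  have := hU.isLocalization_stalk ⟨x, hxU⟩
  exact ⟨b.ofIsLocalizedModule (X.presheaf.stalk x)
    (hU.primeIdealOf ⟨x, hxU⟩).asIdeal.primeCompl φ⟩

theorem exists_basis_stalk_of_flat {Y : Scheme.{u}} (f : Y ⟶ X) [Flat f] (M : X.Modules) [Coh.IsQCoh M]
    (hM : CohB1.IsFT M) (y : Y) {p : ℕ}
    (b : Module.Basis (Fin p) (Y.presheaf.stalk y) (((Scheme.Modules.pullback f).obj M).presheaf.stalk y)) :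
    Nonempty (Module.Basis (Fin p) (X.presheaf.stalk (f y)) (M.presheaf.stalk (f y))) := by
  let _ := (f.stalkMap y).hom.toAlgebra
  let b' := b.map (FreeLocusBC.stalkTensor f M y)
  haveI : Module.Free (Y.presheaf.stalk y) (Y.presheaf.stalk y ⊗[X.presheaf.stalk (f y)] M.presheaf.stalk (f y)) :=
    .of_basis b'
  haveI : Module.Flat (X.presheaf.stalk (f y)) (Y.presheaf.stalk y) := Flat.stalkMap f y
  haveI : IsLocalHom (algebraMap (X.presheaf.stalk (f y)) (Y.presheaf.stalk y)) :=
    inferInstanceAs (IsLocalHom (f.stalkMap y).hom)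
  haveI := Module.FaithfullyFlat.of_flat_of_isLocalHom
    (A := X.presheaf.stalk (f y)) (B := Y.presheaf.stalk y)
  haveI := Module.Flat.of_flat_tensorProduct (X.presheaf.stalk (f y)) (M.presheaf.stalk (f y))
    (Y.presheaf.stalk y)
  haveI := Props12.finite_stalk_of_isFT M hM (f y)
  haveI : Module.Free (X.presheaf.stalk (f y)) (M.presheaf.stalk (f y)) := Module.free_of_flat_of_isLocalRing
  have hr : Module.finrank (X.presheaf.stalk (f y)) (M.presheaf.stalk (f y)) = p := by
    rw [← Module.finrank_baseChange (R := Y.presheaf.stalk y), Module.finrank_eq_card_basis b', Fintype.card_fin]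
  exact ⟨(Module.finBasisOfFinrankEq _ _ hr)⟩

theorem linearIndependent_of_span {R N : Type u} [CommRing R] [AddCommGroup N] [Module R N] {p : ℕ}
    (b : Module.Basis (Fin p) R N) (v : Fin p → N) (hv : ⊤ ≤ Submodule.span R (Set.range v)) :
    LinearIndependent R v := by
  haveI := Module.Finite.of_basis b
  let φ := b.constr R v
  have hs : Function.Surjective φ := by
    rw [← LinearMap.range_eq_top, Module.Basis.constr_range]
    exact top_unique hv
  have hi := OrzechProperty.injective_of_surjective_endomorphism φ hs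
  have : LinearIndependent R (φ ∘ b) := b.linearIndependent.map' φ (LinearMap.ker_eq_bot.2 hi)
  convert this
  exact funext fun i => (b.constr_basis R v i).symm

variable {T : Scheme.{u}} (q : X ⟶ T) [Smooth q] [GeometricallyIrreducible q]

/-- A finite type module is free near `η` when its stalks at all fibre-generic points are free of rank `p`. -/
theorem freeNear_of_stalks (M : X.Modules) [Coh.IsQCoh M] (hM : CohB1.IsFT M) (p : ℕ)
    (h : ∀ t : T, Nonempty (Module.Basis (Fin p) (X.presheaf.stalk (q.fiberι t (genericPoint (q.fiber t))))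
      (M.presheaf.stalk (q.fiberι t (genericPoint (q.fiber t))))))
    (η : X) (v : Fin p → M.presheaf.stalk η) (hv : ⊤ ≤ Submodule.span (X.presheaf.stalk η) (Set.range v)) :
    FlatFun.IsFreeOfRankNear M p η := by
  obtain ⟨T₀, hT₀, hηT, -⟩ := Opens.isBasis_iff_nbhd.mp T.isBasis_affineOpens (Opens.mem_top (q η))
  obtain ⟨W, hW, hηW, hWT, s, hs⟩ := Props12.exists_nhd_generators M hM (O := q ⁻¹ᵁ T₀) hηT v hv
  let _ := (q.appLE T₀ W hWT).hom.toAlgebra
  haveI : Algebra.Smooth Γ(T, T₀) Γ(X, W) :=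
    RingHom.smooth_algebraMap.1 (HasRingHomProperty.appLE (P := @Smooth) q inferInstance ⟨T₀, hT₀⟩ ⟨W, hW⟩ hWT)
  have hli : LinearIndependent Γ(X, W) s := by
    refine Fintype.linearIndependent_iff.2 fun c hc i => eq_zero_of_fibrewise (A := Γ(T, T₀)) _ fun Q => ?_
    let z := hW.fromSpec Q
    have hzW : z ∈ W := hW.range_fromSpec.le ⟨Q, rfl⟩
    let η' := q.fiberι (q z) (genericPoint (q.fiber (q z)))
    have hq' : q η' = q z := (q.range_fiberι _).le ⟨_, rfl⟩
    have hsp : η' ⤳ z := by
      obtain ⟨a, ha⟩ := (q.range_fiberι (q z)).ge (rfl : q z = q z)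
      exact ha ▸ (genericPoint_specializes a).map (q.fiberι (q z)).continuous
    have hη'W : η' ∈ W := hsp.mem_open W.2 hzW
    obtain ⟨b'⟩ := h (q z)
    have hgerm : X.presheaf.germ W η' hη'W (c i) = 0 :=
      Fintype.linearIndependent_iff.1 (linearIndependent_of_span b' _ (Props12.span_germ_eq_top M hW hs hη'W))
        _ (Props12.germ_relation M hc hη'W) i
    let Q' := hW.primeIdealOf ⟨η', hη'W⟩
    let _ := (X.presheaf.germ W η' hη'W).hom.toAlgebra
    haveI : IsLocalization Q'.asIdeal.primeCompl (X.presheaf.stalk η') := hW.isLocalization_stalk ⟨η', hη'W⟩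
    obtain ⟨⟨g, hg⟩, hgc⟩ := (IsLocalization.map_eq_zero_iff Q'.asIdeal.primeCompl (X.presheaf.stalk η') (c i)).1 hgerm
    have hQ'z : hW.fromSpec Q' = η' := hW.fromSpec_primeIdealOf ⟨η', hη'W⟩
    refine ⟨g, Q', ?_, ?_, hg, hgc⟩
    · exact (PrimeSpectrum.le_iff_specializes _ _).2
        (hW.fromSpec.isOpenEmbedding.toIsEmbedding.toIsInducing.specializes_iff.1 (hQ'z.symm ▸ hsp))
    · have hnat : ∀ P, hT₀.fromSpec (Spec.map (q.appLE T₀ W hWT) P) = q (hW.fromSpec P) := fun P => by
        rw [← Scheme.Hom.comp_apply, ← Scheme.Hom.comp_apply, IsAffineOpen.SpecMap_appLE_fromSpec q hT₀ hW hWT]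
      exact congrArg PrimeSpectrum.asIdeal (hT₀.fromSpec.isOpenEmbedding.injective
        ((hnat Q').trans ((congrArg q hQ'z).trans (hq'.trans (hnat Q).symm))))
  obtain ⟨b₁⟩ := Props12.exists_basis_restrict_top M W (Module.Basis.mk hli hs)
  haveI : IsAffine W.toScheme := hW
  exact ⟨W, hηW, Props12.exists_iso_freeMod_of_basis (M.restrict W.ι) b₁⟩

section Functor

variable {S X₀ : Scheme.{u}} (f : X₀ ⟶ S) [Smooth f] [GeometricallyIrreducible f] (F : X₀.Modules) [Coh.IsQCoh F]

theorem genPts_desc (hF : CohB1.IsFT F) (p : ℕ) {T₁ : Over S}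
    (hc : ∀ t : T₁.left, ∃ (T' : Over S) (g : T' ⟶ T₁), Flat g.left ∧ t ∈ Set.range g.left ∧
      FlatFun.FreeAtGenericPts (PicF.XTproj f T') (FGA.ET f F T') p) :
    FlatFun.FreeAtGenericPts (PicF.XTproj f T₁) (FGA.ET f F T₁) p := by
  let q := PicF.XTproj f T₁
  haveI : Smooth q := inferInstanceAs (Smooth (pullback.snd f T₁.hom))
  haveI := InjFibre.isQCoh_pullback (pullback.fst f T₁.hom) F
  have hFT : CohB1.IsFT (FGA.ET f F T₁) := Coherent.isFT_pullback_qcoh _ inferInstance hF
  have hstalk : ∀ t : T₁.left, Nonempty (Module.Basis (Fin p)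
      ((PicF.XT f T₁).presheaf.stalk (q.fiberι t (genericPoint (q.fiber t))))
      ((FGA.ET f F T₁).presheaf.stalk (q.fiberι t (genericPoint (q.fiber t))))) := fun t => by
    obtain ⟨T', g, _, ⟨t', rfl⟩, hfree⟩ := hc t
    obtain ⟨x', hx', hgen, hnear⟩ := hfree t'
    set η := q.fiberι (g.left t') (genericPoint (q.fiber (g.left t')))
    have hqη : q η = g.left t' := (q.range_fiberι _).le ⟨_, rfl⟩
    have sq := isPullback_XTmap f g
    obtain ⟨z, hz1, hz2⟩ := Scheme.Pullback.exists_preimage_pullback (f := PicF.XTproj f T₁) (g := g.left)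
      η t' hqη
    let y := sq.isoPullback.inv z
    have hy1 : PicF.XTmap f g y = η := by rw [← Scheme.Hom.comp_apply, sq.isoPullback_inv_fst, hz1]
    have hy2 : PicF.XTproj f T' y = t' := by rw [← Scheme.Hom.comp_apply, sq.isoPullback_inv_snd, hz2]
    have hfix : PicF.XTmap f g x' = η := by
      have h1 : PicF.XTmap f g x' ⤳ η := hy1 ▸ (hgen y (hy2.trans hx'.symm)).map (PicF.XTmap f g).continuous
      have h2 : q (PicF.XTmap f g x') = g.left t' := by
        rw [← Scheme.Hom.comp_apply, sq.w, Scheme.Hom.comp_apply]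
        exact congrArg _ hx'
      obtain ⟨a, ha⟩ := (q.range_fiberι (g.left t')).ge h2
      exact (h1.antisymm (ha ▸ (genericPoint_specializes a).map (q.fiberι _).continuous)).eq
    have hnear' : FlatFun.IsFreeOfRankNear ((Scheme.Modules.pullback (PicF.XTmap f g)).obj (FGA.ET f F T₁)) p x' :=
      freeNear_of_iso (FGA.ETiso f F g).symm hnear
    haveI := InjFibre.isQCoh_pullback (PicF.XTmap f g) (FGA.ET f F T₁)
    obtain ⟨b⟩ := exists_basis_stalk_of_freeNear _ hnear'
    haveI : Flat (PicF.XTmap f g) := MorphismProperty.of_isPullback (P := @Flat) sq.flip inferInstance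
    exact hfix ▸ exists_basis_stalk_of_flat (PicF.XTmap f g) _ hFT x' b
  rw [freeAtGenericPts_iff]
  intro t
  obtain ⟨b⟩ := hstalk t
  exact ⟨_, (q.range_fiberι t).le ⟨_, rfl⟩, freeNear_of_stalks q _ hFT p hstalk _ b b.span_eq.ge⟩

end Functor

end Groth.Agent.FlatMor12.FlatFun
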