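import Groth.Agent.FlatMor12.FlatFun.GenPtsDescent
import Groth.Agent.FlatMor12.FittSheaf
import Groth.Agent.FlatMorLocalStr.SmoothFibres
import Groth.Agent.SGA3cLib.SmoothPure
import Groth.Agent.H8Lim.IdealDescent

/-!
# `H_p` is representable by an immersion
-/

set_option autoImplicit false
set_option backward.isDefEq.respectTransparency false

universe u

open CategoryTheory Limits AlgebraicGeometry Opposite TopologicalSpace

namespace Groth.Agent.FlatMor12.FlatFun

open Groth.Agent.EGA43 Groth.Agent.SGA3cLib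

section Stratum

variable {X : Scheme.{u}} (F : X.Modules) (p : ℕ)

/-- The open where `F` is locally generated by `p` sections. -/
noncomputable def genOpen : X.Opens := (Fitt.sheafIdeal F p).support.compl

/-- The ideal cutting out the rank `p` stratum inside `genOpen`. -/
noncomputable def stratumIdeal : (genOpen F p).toScheme.IdealSheafData :=
  (if p = 0 then ⊥ else Fitt.sheafIdeal F (p - 1)).comap (genOpen F p).ι

variable [Coh.IsQCoh F]

theorem factors_stratum_iff (hF : CohB1.IsFT F) {T : Scheme.{u}} (g : T ⟶ (genOpen F p).toScheme) :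
    (∃ l, l ≫ (stratumIdeal F p).subschemeι = g) ↔
      FlatMod.IsFinLocFreeOfRank p ((Scheme.Modules.pullback (g ≫ (genOpen F p).ι)).obj F) := by
  have hq := InjFibre.isQCoh_pullback (g ≫ (genOpen F p).ι) F
  have hT := Coherent.isFT_pullback_qcoh (g ≫ (genOpen F p).ι) (F := F) inferInstance hF
  have htop : (Fitt.sheafIdeal F p).comap (g ≫ (genOpen F p).ι) = ⊤ := by
    rw [← Scheme.IdealSheafData.support_eq_bot_iff, Scheme.IdealSheafData.support_comap]
    exact le_bot_iff.1 fun y hy => ((g y).2 hy)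
  have hi : (stratumIdeal F p).comap g = ⊥ ↔
      ∀ k < p, (Fitt.sheafIdeal F k).comap (g ≫ (genOpen F p).ι) = ⊥ := by
    rw [stratumIdeal, ← Scheme.IdealSheafData.comap_comp]
    split_ifs with hp
    · simp [Scheme.IdealSheafData.comap_bot, hp]
    · refine ⟨fun h k hk => le_bot_iff.1 ?_, fun h => h _ (by omega)⟩
      rw [← h]
      exact Scheme.IdealSheafData.comap_mono _ (FittSheaf.sheafIdeal_mono F hF (by omega))
  rw [FittSheaf.isFinLocFreeOfRank_iff _ hT]
  simp only [← FittSheaf.comap_eq F (g ≫ (genOpen F p).ι) hF]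
  constructor
  · rintro ⟨l, rfl⟩
    refine ⟨hi.1 ?_, fun k hk => top_le_iff.1 ?_⟩
    · rw [Scheme.IdealSheafData.comap_comp]
      have : (stratumIdeal F p).comap (stratumIdeal F p).subschemeι = ⊥ := by
        refine le_bot_iff.1 (Scheme.IdealSheafData.le_map_iff_comap_le.1 ?_)
        rw [Scheme.IdealSheafData.map_bot, Scheme.IdealSheafData.ker_subschemeι]
      rw [this, Scheme.IdealSheafData.comap_bot]
    · rw [← htop]
      exact Scheme.IdealSheafData.comap_mono _ (FittSheaf.sheafIdeal_mono F hF hk)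
  · rintro ⟨h0, -⟩
    refine ⟨IsClosedImmersion.lift _ g ?_, IsClosedImmersion.lift_fac _ _ _⟩
    rw [Scheme.IdealSheafData.ker_subschemeι, ← Scheme.IdealSheafData.map_bot,
      Scheme.IdealSheafData.le_map_iff_comap_le, hi.2 h0]

theorem locallyOfFinitePresentation_stratum (hF : CohB1.IsFP F) :
    LocallyOfFinitePresentation (stratumIdeal F p).subschemeι := by
  refine H8Lim.locallyOfFinitePresentation_of_ker_fg _ fun U => ?_
  rw [Scheme.IdealSheafData.ker_subschemeι, stratumIdeal]
  split_ifs with hp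
  · rw [Scheme.IdealSheafData.comap_bot]
    exact Submodule.fg_bot
  · let W : X.affineOpens := ⟨(genOpen F p).ι ''ᵁ U.1, U.2.image_of_isOpenImmersion _⟩
    rw [ProjLib.comap_ideal_eq (U := W) (e := by rw [Scheme.Hom.preimage_image_eq])]
    exact Ideal.FG.map (FittSheaf.isFiniteTypeIdeal F hF _ _) _

theorem isCompact_genOpen_inter (hF : CohB1.IsFP F) (W : X.affineOpens) :
    IsCompact ((genOpen F p : Set X) ∩ W.1) := by
  obtain ⟨s, hs⟩ := FittSheaf.isFiniteTypeIdeal F hF p W
  have : (genOpen F p : Set X) ∩ W.1 = ⋃ d ∈ (s : Set Γ(X, W.1)), (X.basicOpen d : Set X) := by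
    ext x
    refine ⟨fun ⟨hx, hxW⟩ => ?_, fun hx => ?_⟩
    · by_contra hn
      refine hx ((Scheme.IdealSheafData.mem_support_iff_of_mem hxW).2 ?_)
      rw [← hs, Scheme.zeroLocus_span, Scheme.mem_zeroLocus_iff]
      exact fun d hd hxd => hn (Set.mem_biUnion hd hxd)
    · obtain ⟨d, hd, hxd⟩ := Set.mem_iUnion₂.1 hx
      refine ⟨fun hsup => ?_, X.basicOpen_le d hxd⟩
      have h1 := (Scheme.IdealSheafData.mem_support_iff_of_mem (X.basicOpen_le d hxd)).1 hsup
      rw [← hs, Scheme.zeroLocus_span, Scheme.mem_zeroLocus_iff] at h1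
      exact h1 d hd hxd
  rw [this]
  exact s.finite_toSet.isCompact_biUnion fun d _ => (W.2.basicOpen d).isCompact

end Stratum

variable {X S : Scheme.{u}} (f : X ⟶ S) [Smooth f] [GeometricallyIrreducible f]
  (F : X.Modules) [Coh.IsQCoh F]

theorem intFibres_open (U : X.Opens) (S₁ : S.Opens) (q : U.toScheme ⟶ S₁.toScheme)
    (hq : q ≫ S₁.ι = U.ι ≫ f) [Surjective q] : SmoothPure.IntFibres q := by
  intro K _ _ x
  haveI : IrreducibleSpace ↥(pullback f (x ≫ S₁.ι)) :=
    GeometricallyIrreducible.geometrically_irreducibleSpace _ _ _ (IsPullback.of_hasPullback f (x ≫ S₁.ι))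
  haveI : IsReduced (pullback f (x ≫ S₁.ι)) :=
    FlatMorLocalStr.isReduced_of_smooth_field (pullback.snd f (x ≫ S₁.ι))
  haveI : IsIntegral (pullback f (x ≫ S₁.ι)) := isIntegral_of_irreducibleSpace_of_isReduced _
  let m : pullback q x ⟶ pullback f (x ≫ S₁.ι) :=
    pullback.lift (pullback.fst q x ≫ U.ι) (pullback.snd q x)
      (by rw [Category.assoc, ← hq, pullback.condition_assoc])
  have sq : IsPullback (pullback.fst q x) m U.ι (pullback.fst f (x ≫ S₁.ι)) := by
    refine IsPullback.of_bot ?_ (pullback.lift_fst _ _ _).symm (IsPullback.of_hasPullback f (x ≫ S₁.ι))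
    rw [pullback.lift_snd, ← hq]
    exact SubgroupContent.isPullback_comp_mono (IsPullback.of_hasPullback q x) S₁.ι
  haveI : IsOpenImmersion m := MorphismProperty.of_isPullback (P := @IsOpenImmersion) sq inferInstance
  obtain ⟨y⟩ : Nonempty ↥(pullback q x) := by
    obtain ⟨z⟩ : Nonempty (Spec (CommRingCat.of K)) := inferInstance
    obtain ⟨a, ha⟩ := q.surjective (x z)
    exact ⟨(Scheme.Pullback.exists_preimage_pullback a z ha).choose⟩
  haveI : Nonempty ↥(pullback q x) := ⟨y⟩
  exact isIntegral_of_isOpenImmersion m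

theorem exists_representable (hF : CohB1.IsFT F) (p : ℕ) :
    ∃ Z : Over S, IsImmersion Z.hom ∧
      Nonempty ((FlatFun.genPSp S (fun T => FlatFun.FreeAtGenericPts (PicF.XTproj f T) (FGA.ET f F T) p)).RepresentableBy Z) ∧
      (CohB1.IsFP F → LocallyOfFinitePresentation Z.hom ∧ QuasiCompact Z.hom ∧ QuasiSeparated Z.hom) := by
  classical
  let U := genOpen F p
  let S₁ : S.Opens := ⟨f '' (U : Set X), f.isOpenMap _ U.2⟩
  let q : U.toScheme ⟶ S₁.toScheme := IsOpenImmersion.lift S₁.ι (U.ι ≫ f) (by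
    rw [Scheme.Opens.range_ι]
    rintro _ ⟨x, rfl⟩
    exact ⟨x.1, x.2, rfl⟩)
  have hq : q ≫ S₁.ι = U.ι ≫ f := IsOpenImmersion.lift_fac _ _ _
  haveI : Surjective q := ⟨fun s => by
    obtain ⟨x, hx, hxs⟩ := s.2
    refine ⟨⟨x, hx⟩, S₁.ι.isEmbedding.injective ?_⟩
    rw [← Scheme.Hom.comp_apply, hq]
    exact hxs⟩
  haveI : Smooth q := by
    have sq : IsPullback q (𝟙 _) S₁.ι (q ≫ S₁.ι) :=
      IsPullback.of_vert_isIso_mono ⟨by simp⟩
    haveI : Smooth (q ≫ S₁.ι) := hq ▸ inferInstance
    exact MorphismProperty.of_isPullback (P := @Smooth) sq.flip inferInstance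
  let W := (stratumIdeal F p).subscheme
  let y : W ⟶ U.toScheme := (stratumIdeal F p).subschemeι
  obtain ⟨Z, t, ht, hiff, hfp⟩ := SmoothPure.exists_closedImmersion (f := q)
    (intFibres_open f U S₁ q hq) y
  have key : ∀ T : Over S, FlatFun.FreeAtGenericPts (PicF.XTproj f T) (FGA.ET f F T) p ↔
      ∃ z : T.left ⟶ Z, z ≫ t ≫ S₁.ι = T.hom := by
    intro T
    haveI : Smooth (PicF.XTproj f T) := inferInstanceAs (Smooth (pullback.snd f T.hom))
    let fT := pullback.fst f T.hom
    haveI := InjFibre.isQCoh_pullback fT F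
    have hFT : CohB1.IsFT (FGA.ET f F T) := Coherent.isFT_pullback_qcoh fT inferInstance hF
    constructor
    · intro h
      have hU : ∀ τ : T.left, ∃ z : PicF.XT f T, PicF.XTproj f T z = τ ∧ fT z ∈ U := fun τ => by
        obtain ⟨z, hz, -, ⟨V, hzV, ⟨e⟩⟩⟩ := h τ
        refine ⟨z, hz, fun hsup => ?_⟩
        refine (FittSheaf.generated_iff (FGA.ET f F T) hFT z p).1 ⟨V, hzV, e.inv, inferInstance⟩ ?_
        rw [← FittSheaf.comap_eq F fT hF, Scheme.IdealSheafData.support_comap]
        exact hsup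
      let x : T.left ⟶ S₁.toScheme := IsOpenImmersion.lift S₁.ι T.hom (by
        rw [Scheme.Opens.range_ι]
        rintro _ ⟨τ, rfl⟩
        obtain ⟨z, hz, hzU⟩ := hU τ
        refine ⟨fT z, hzU, ?_⟩
        rw [← hz, ← Scheme.Hom.comp_apply, ← Scheme.Hom.comp_apply]
        exact congrArg (fun φ : pullback f T.hom ⟶ S => φ z) pullback.condition)
      have hx : x ≫ S₁.ι = T.hom := IsOpenImmersion.lift_fac _ _ _
      obtain ⟨z, hz⟩ := (hiff T.left x).2 (by
        let j : pullback q x ⟶ PicF.XT f T :=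
          pullback.lift (pullback.fst q x ≫ U.ι) (pullback.snd q x)
            (by rw [Category.assoc, ← hq, pullback.condition_assoc, hx])
        have hj : j ≫ fT = pullback.fst q x ≫ U.ι := pullback.lift_fst _ _ _
        refine (factors_stratum_iff F p hF _).2 fun w => ?_
        have hw : fT (j w) ∈ U := by
          rw [← Scheme.Hom.comp_apply, hj]
          exact (pullback.fst q x w).2
        have hns : j w ∉ (Fitt.sheafIdeal (FGA.ET f F T) p).support := fun hs => hw (by
          rw [← FittSheaf.comap_eq F fT hF, Scheme.IdealSheafData.support_comap] at hs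
          exact hs)
        obtain ⟨V, hwV, g, hg⟩ := FittSheaf.exists_span_nhd (FGA.ET f F T) hFT hns
        have hnear : FlatFun.IsFreeOfRankNear (FGA.ET f F T) p (j w) :=
          freeNear_of_stalks (PicF.XTproj f T) _ hFT p (fun τ => by
            obtain ⟨z, hz, hgen, hz'⟩ := h τ
            obtain ⟨a, ha⟩ := ((PicF.XTproj f T).range_fiberι τ).ge hz
            have : z = (PicF.XTproj f T).fiberι τ (genericPoint ((PicF.XTproj f T).fiber τ)) :=
              ((hgen _ ((((PicF.XTproj f T).range_fiberι τ).le ⟨_, rfl⟩ :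
                (PicF.XTproj f T) _ = τ).trans hz.symm)).antisymm
                (ha ▸ (genericPoint_specializes a).map ((PicF.XTproj f T).fiberι τ).continuous)).eq
            exact this ▸ exists_basis_stalk_of_freeNear _ hz') (j w) _
            (Props12.span_germ_eq_top (FGA.ET f F T) V.2 hg.ge hwV)
        exact freeNear_of_iso ((Scheme.Modules.pullbackComp j fT ≪≫ Scheme.Modules.pullbackCongr hj).app F)
          (freeNear_pullback j hnear))
      exact ⟨z, by rw [reassoc_of% hz, hx]⟩
    · rintro ⟨z, hz⟩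
      let x := z ≫ t
      have hx : x ≫ S₁.ι = T.hom := by rw [Category.assoc, hz]
      have hfree := (factors_stratum_iff F p hF _).1 ((hiff T.left x).1 ⟨z, rfl⟩)
      let j : pullback q x ⟶ PicF.XT f T :=
        pullback.lift (pullback.fst q x ≫ U.ι) (pullback.snd q x)
          (by rw [Category.assoc, ← hq, pullback.condition_assoc, hx])
      have hj : j ≫ fT = pullback.fst q x ≫ U.ι := pullback.lift_fst _ _ _
      have sq : IsPullback (pullback.fst q x) j U.ι fT := by
        refine IsPullback.of_bot ?_ hj.symm (IsPullback.of_hasPullback f T.hom)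
        rw [pullback.lift_snd, ← hq, ← hx]
        exact SubgroupContent.isPullback_comp_mono (IsPullback.of_hasPullback q x) S₁.ι
      haveI : IsOpenImmersion j := MorphismProperty.of_isPullback (P := @IsOpenImmersion) sq inferInstance
      rw [freeAtGenericPts_iff]
      intro τ
      obtain ⟨a, ha⟩ := q.surjective (x τ)
      obtain ⟨w, -, hw⟩ := Scheme.Pullback.exists_preimage_pullback a τ ha
      refine ⟨j w, by rw [← Scheme.Hom.comp_apply]; exact (congrArg (fun φ : pullback q x ⟶ T.left => φ w)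
        (pullback.lift_snd _ _ _)).trans hw, ?_⟩
      exact freeNear_of_openImmersion j (freeNear_of_iso
        ((Scheme.Modules.pullbackComp j fT ≪≫ Scheme.Modules.pullbackCongr hj).symm.app F) (hfree w))
  haveI := ht
  refine ⟨Over.mk (t ≫ S₁.ι), inferInstanceAs (IsImmersion (t ≫ S₁.ι)), ⟨?_⟩, fun hFP => ?_⟩
  · have hP : ∀ T : Over S, Nonempty ((FlatFun.genPSp S (fun T => FlatFun.FreeAtGenericPts (PicF.XTproj f T) (FGA.ET f F T) p)).obj (op T)) ↔
        Nonempty (T ⟶ Over.mk (t ≫ S₁.ι)) := fun T => by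
      rw [FlatFun.genPSp_nonempty_iff_of_stable _ (fun _ _ g h => genPts_stable f F p g h), key]
      exact ⟨fun ⟨z, hz⟩ => ⟨Over.homMk z hz⟩, fun ⟨g⟩ => ⟨g.left, Over.w g⟩⟩
    have hsub : ∀ T : Over S, Subsingleton (T ⟶ Over.mk (t ≫ S₁.ι)) := fun T => ⟨fun a b =>
      Over.OverMorphism.ext ((cancel_mono (t ≫ S₁.ι)).1 ((Over.w a).trans (Over.w b).symm))⟩
    exact
      { homEquiv := fun {T} =>
          haveI := hsub T
          haveI := FlatFun.genPSp_subsingleton S (fun T => FlatFun.FreeAtGenericPts (PicF.XTproj f T) (FGA.ET f F T) p) (op T)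
          equivOfSubsingletonOfSubsingleton (fun g => ((hP T).2 ⟨g⟩).some) (fun a => ((hP T).1 ⟨a⟩).some)
        homEquiv_comp := fun {T T'} _ _ =>
          (FlatFun.genPSp_subsingleton S _ (op T)).elim _ _ }
  · haveI := hfp (locallyOfFinitePresentation_stratum F p hFP)
    haveI : QuasiCompact S₁.ι := by
      rw [quasiCompact_iff_forall_isAffineOpen]
      intro V hV
      obtain ⟨s, hs⟩ := hV.isCompact.elim_finite_subcover
        (fun W : {W : X.affineOpens // W.1 ≤ f ⁻¹ᵁ V} => f '' (W.1.1 : Set X))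
        (fun W => f.isOpenMap _ W.1.1.2) fun v hv => by
          obtain ⟨x, hx⟩ := f.surjective v
          obtain ⟨W, hW, hxW, hWV⟩ := Opens.isBasis_iff_nbhd.mp X.isBasis_affineOpens
            (show x ∈ f ⁻¹ᵁ V by show f x ∈ V; rw [hx]; exact hv)
          exact Set.mem_iUnion.2 ⟨⟨⟨W, hW⟩, hWV⟩, x, hxW, hx⟩
      have heq : (S₁ : Set S) ∩ V = ⋃ W ∈ s, f '' ((U : Set X) ∩ W.1.1) := by
        refine Set.ext fun v => ⟨fun ⟨⟨x, hx, hxv⟩, hv⟩ => ?_, fun hv => ?_⟩
        · obtain ⟨W, hW, w, hwW, hwv⟩ := Set.mem_iUnion₂.1 (hs hv)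
          refine Set.mem_iUnion₂.2 ⟨W, hW, f.fiberι v (genericPoint (f.fiber v)), ⟨?_, ?_⟩,
            (f.range_fiberι v).le ⟨_, rfl⟩⟩
          · obtain ⟨a, ha⟩ := (f.range_fiberι v).ge hxv
            exact (ha ▸ (genericPoint_specializes a).map (f.fiberι v).continuous).mem_open U.2 hx
          · obtain ⟨a, ha⟩ := (f.range_fiberι v).ge hwv
            exact (ha ▸ (genericPoint_specializes a).map (f.fiberι v).continuous).mem_open W.1.1.2 hwW
        · obtain ⟨W, -, x, ⟨hxU, hxW⟩, rfl⟩ := Set.mem_iUnion₂.1 hv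
          exact ⟨⟨x, hxU, rfl⟩, W.2 hxW⟩
      rw [S₁.ι.isEmbedding.isInducing.isCompact_iff, ← Scheme.Hom.coe_image, Scheme.Hom.image_preimage_eq_opensRange_inf]
      rw [TopologicalSpace.Opens.coe_inf, Scheme.Opens.opensRange_ι, heq]
      exact s.finite_toSet.isCompact_biUnion fun W _ =>
        (isCompact_genOpen_inter F p hFP W.1).image f.continuous
    exact ⟨inferInstanceAs (LocallyOfFinitePresentation (t ≫ S₁.ι)), inferInstanceAs (QuasiCompact (t ≫ S₁.ι)),
      inferInstanceAs (QuasiSeparated (t ≫ S₁.ι))⟩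

end Groth.Agent.FlatMor12.FlatFun
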