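import Groth.Agent.FlatMor12.FlatFun.Sheaf
import Groth.Agent.EGA43.DimFormula.Sub
import Groth.Agent.EGA43.DimFormula.UnivDim
import Groth.Agent.FlatMor12.ResTrdeg

/-!
# `DimFibresLT` under base change
-/

set_option backward.isDefEq.respectTransparency false
set_option backward.defeqAttrib.useBackward true

universe u

open CategoryTheory CategoryTheory.Limits AlgebraicGeometry Groth.Agent.EGA43

namespace Groth.Agent.FlatMor12.FlatFun

open DimFormula

variable {X Y X' Y' : Scheme.{u}} {f : X ⟶ Y} [LocallyOfFiniteType f] {g : Y' ⟶ Y} {f' : X' ⟶ Y'}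
  {g' : X' ⟶ X}

theorem trdAt_baseChange_le (sq : IsPullback g' f' f g) (x' : X') : trdAt f' x' ≤ trdAt f (g' x') := by
  haveI : LocallyOfFiniteType f' := MorphismProperty.of_isPullback sq inferInstance
  obtain ⟨Z, ι, hι, hZ, -, hg⟩ := exists_integral_subscheme (g' x')
  haveI := hι
  haveI := hZ
  let m : pullback (ι ≫ f) g ⟶ X' := sq.lift (pullback.fst _ _ ≫ ι) (pullback.snd _ _)
    (by rw [Category.assoc, pullback.condition])
  have hm : IsPullback (pullback.fst (ι ≫ f) g) m ι g' :=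
    IsPullback.of_bot (by rw [sq.lift_snd]; exact IsPullback.of_hasPullback (ι ≫ f) g)
      (sq.lift_fst _ _ _).symm sq
  haveI : IsClosedImmersion m := MorphismProperty.of_isPullback (P := @IsClosedImmersion) hm inferInstance
  obtain ⟨q, -, hq⟩ := Scheme.Pullback.exists_preimage_pullback (f := ι) (g := g') (genericPoint Z) x'
    (hg inferInstance)
  let w := hm.isoPullback.inv q
  have hw : m w = x' := by
    rw [← Scheme.Hom.comp_apply, IsPullback.isoPullback_inv_snd, hq]
  obtain ⟨p, hpw, hfp, hmax⟩ := Chevalley.exists_maximal_in_fibre (pullback.snd (ι ≫ f) g) w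
  obtain ⟨he, -⟩ := trdAt_pullback_of_maximal (ι ≫ f) g p fun v hv hv' => hmax v hv (hv'.trans hfp)
  have hgen : pullback.fst (ι ≫ f) g p = genericPoint Z := by
    have h1 : pullback.fst (ι ≫ f) g w = genericPoint Z := by
      refine ι.isEmbedding.injective ?_
      rw [← Scheme.Hom.comp_apply, ← sq.lift_fst (pullback.fst _ _ ≫ ι) (pullback.snd _ _)
        (by rw [Category.assoc, pullback.condition]), Scheme.Hom.comp_apply, hg inferInstance]
      exact congrArg g' hw
    refine ((genericPoint_specializes _).antisymm ?_).eq.symm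
    exact h1 ▸ hpw.map (pullback.fst (ι ≫ f) g).continuous
  haveI : LocallyOfFiniteType (pullback.snd (ι ≫ f) g) := inferInstance
  have hle : trdAt (pullback.snd (ι ≫ f) g) w ≤ trdAt (pullback.snd (ι ≫ f) g) p :=
    Chevalley.trdegHom_le_of_specializes _ hpw hfp
  rw [he, hgen, trdAt_comp ι f, hg inferInstance] at hle
  have e : trdAt (pullback.snd (ι ≫ f) g) w = trdAt f' x' := by
    rw [← hw, ← trdAt_comp m f' w]
    congr 2 <;> exact (sq.lift_snd _ _ _).symm
  rwa [e] at hle

theorem exists_trdAt_baseChange (sq : IsPullback g' f' f g) (x : X) (y' : Y') (hy : g y' = f x) :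
    ∃ x' : X', g' x' = x ∧ f' x' = y' ∧ trdAt f x ≤ trdAt f' x' := by
  obtain ⟨Z, ι, hι, hZ, -, hg⟩ := exists_integral_subscheme x
  haveI := hι
  haveI := hZ
  let m : pullback (ι ≫ f) g ⟶ X' := sq.lift (pullback.fst _ _ ≫ ι) (pullback.snd _ _)
    (by rw [Category.assoc, pullback.condition])
  have hm : IsPullback (pullback.fst (ι ≫ f) g) m ι g' :=
    IsPullback.of_bot (by rw [sq.lift_snd]; exact IsPullback.of_hasPullback (ι ≫ f) g)
      (sq.lift_fst _ _ _).symm sq
  haveI : IsClosedImmersion m := MorphismProperty.of_isPullback (P := @IsClosedImmersion) hm inferInstance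
  obtain ⟨w, hw1, hw2⟩ := Scheme.Pullback.exists_preimage_pullback (f := ι ≫ f) (g := g) (genericPoint Z) y'
    (by rw [Scheme.Hom.comp_apply, hg inferInstance, hy])
  obtain ⟨p, hpw, hfp, hmax⟩ := Chevalley.exists_maximal_in_fibre (pullback.snd (ι ≫ f) g) w
  obtain ⟨he, -⟩ := trdAt_pullback_of_maximal (ι ≫ f) g p fun v hv hv' => hmax v hv (hv'.trans hfp)
  have hgen : pullback.fst (ι ≫ f) g p = genericPoint Z := by
    refine ((genericPoint_specializes _).antisymm ?_).eq.symm
    exact hw1 ▸ hpw.map (pullback.fst (ι ≫ f) g).continuous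
  refine ⟨m p, ?_, ?_, le_of_eq ?_⟩
  · rw [← Scheme.Hom.comp_apply, sq.lift_fst, Scheme.Hom.comp_apply, hgen, hg inferInstance]
  · rw [← Scheme.Hom.comp_apply, sq.lift_snd, hfp, hw2]
  · rw [← trdAt_comp m f' p]
    calc trdAt f x = trdAt (pullback.snd (ι ≫ f) g) p := by
          rw [he, hgen, trdAt_comp ι f, hg inferInstance]
      _ = trdAt (m ≫ f') p := by congr 2 <;> exact (sq.lift_snd _ _ _).symm

theorem dimFibresLT_iff {X Y : Scheme.{u}} (f : X ⟶ Y) [LocallyOfFiniteType f] (n : ℕ) (Z : Set X) :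
    FlatFun.DimFibresLT n f Z ↔ ∀ x ∈ Z, trdAt f x < n := by
  refine forall₂_congr fun x _ => ?_
  letI := (f.residueFieldMap x).hom.toAlgebra
  have hfin : Algebra.trdeg (Y.residueField (f x)) (X.residueField x) < Cardinal.aleph0 :=
    trdeg_residueFieldMap_lt f x
  obtain ⟨m, hm⟩ := Cardinal.lt_aleph0.1 hfin
  show Algebra.trdeg _ _ < _ ↔ (Algebra.trdeg _ _).toNat < n
  rw [hm, Cardinal.toNat_natCast]
  exact Nat.cast_lt

variable {X S : Scheme.{u}} (f : X ⟶ S) [LocallyOfFiniteType f] (F : X.Modules) (n : ℕ)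

theorem dimLT_stable {T T₀ : Over S} (g : T ⟶ T₀)
    (h : FlatFun.DimFibresLT n (PicF.XTproj f T₀)
      {x | ¬ FlatMod.IsFlatOverAt (PicF.XTproj f T₀) (FGA.ET f F T₀) x}) :
    FlatFun.DimFibresLT n (PicF.XTproj f T) {x | ¬ FlatMod.IsFlatOverAt (PicF.XTproj f T) (FGA.ET f F T) x} := by
  rw [dimFibresLT_iff] at h ⊢
  intro x hx
  refine (trdAt_baseChange_le (isPullback_XTmap f g) x).trans_lt (h _ fun hfl => hx ?_)
  exact EGA43.DvrCrit.isFlatOverAt_of_iso _ (FGA.ETiso f F g) x
    (Desc19b.isFlatOverAt_baseChange _ _ _ _ (isPullback_XTmap f g) _ x hfl)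

theorem dimLT_desc {T : Over S}
    (hc : ∀ t : T.left, ∃ (T' : Over S) (g : T' ⟶ T), Flat g.left ∧ t ∈ Set.range g.left ∧
      FlatFun.DimFibresLT n (PicF.XTproj f T')
        {x | ¬ FlatMod.IsFlatOverAt (PicF.XTproj f T') (FGA.ET f F T') x}) :
    FlatFun.DimFibresLT n (PicF.XTproj f T) {x | ¬ FlatMod.IsFlatOverAt (PicF.XTproj f T) (FGA.ET f F T) x} := by
  rw [dimFibresLT_iff]
  intro x hx
  obtain ⟨T', g, _, ⟨t', ht'⟩, hm⟩ := hc (PicF.XTproj f T x)
  rw [dimFibresLT_iff] at hm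
  obtain ⟨x', hx', -, hle⟩ := exists_trdAt_baseChange (isPullback_XTmap f g) x t' ht'
  exact hle.trans_lt (hm x' fun hfl => hx (hx' ▸ flatAt_of_flatAt f g x' hfl))

end Groth.Agent.FlatMor12.FlatFun
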