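import Groth.Agent.FlatMor12.FlatFun.DimLT
import Groth.Agent.FlatMor12.RelDimComp
import Groth.Agent.Unram17Lib.RelDim
import Groth.Agent.Props12.FlatOver

/-!
# Flatness in dimensions `≥ n` passes to étale schemes over the source
-/

set_option autoImplicit false
set_option backward.isDefEq.respectTransparency false

universe u

open CategoryTheory Limits AlgebraicGeometry Opposite

namespace Groth.Agent.FlatMor12.FlatFun

open Groth.Agent.EGA43 DimFormula

theorem trdAt_comp_etale {X Y Z : Scheme.{u}} (m : Y ⟶ X) [Etale m] (q : X ⟶ Z) [LocallyOfFiniteType q] (y : Y) :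
    trdAt (m ≫ q) y = trdAt q (m y) := by
  have h0 : DimLib.trdegHom (m.residueFieldMap y).hom ≤ 0 :=
    (FlatMorDim.fibreDimAt_le_iff m y 0).1
      (Unram17Lib.fibreDimAt_of_smoothOfRelativeDimension m 0 y).le y rfl specializes_rfl
  show DimLib.trdegHom _ = DimLib.trdegHom _
  rw [trdegHom_comp_residueFieldMap m q y, Nat.le_zero.1 h0, add_zero]

variable {X X' S : Scheme.{u}} (f : X ⟶ S) [LocallyOfFiniteType f] (F : X.Modules) (h : X' ⟶ X) [Etale h]

theorem dimLT_etale (n : ℕ) (T : Over S)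
    (hT : FlatFun.DimFibresLT n (PicF.XTproj f T)
        {x | ¬ FlatMod.IsFlatOverAt (PicF.XTproj f T) (FGA.ET f F T) x}) :
    FlatFun.DimFibresLT n (PicF.XTproj (h ≫ f) T)
        {x | ¬ FlatMod.IsFlatOverAt (PicF.XTproj (h ≫ f) T) (FGA.ET (h ≫ f) ((Scheme.Modules.pullback h).obj F) T) x} := by
  let m : PicF.XT (h ≫ f) T ⟶ PicF.XT f T :=
    pullback.lift (pullback.fst _ _ ≫ h) (pullback.snd _ _) (by rw [Category.assoc, pullback.condition])
  have hm1 : m ≫ pullback.fst f T.hom = pullback.fst (h ≫ f) T.hom ≫ h := pullback.lift_fst _ _ _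
  have hm2 : m ≫ PicF.XTproj f T = PicF.XTproj (h ≫ f) T := pullback.lift_snd _ _ _
  have sqm : IsPullback (pullback.fst (h ≫ f) T.hom) m h (pullback.fst f T.hom) :=
    IsPullback.of_bot (by rw [hm2]; exact IsPullback.of_hasPullback (h ≫ f) T.hom) hm1.symm
      (IsPullback.of_hasPullback f T.hom)
  haveI : Etale m := MorphismProperty.of_isPullback (P := @Etale) sqm inferInstance
  haveI : LocallyOfFiniteType (PicF.XTproj f T) := inferInstanceAs (LocallyOfFiniteType (pullback.snd f T.hom))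
  rw [dimFibresLT_iff] at hT
  haveI : LocallyOfFiniteType (PicF.XTproj (h ≫ f) T) := hm2 ▸ inferInstance
  rw [dimFibresLT_iff]
  intro y hy
  rw [← hm2, trdAt_comp_etale]
  refine hT _ fun hfl => hy ?_
  have h1 := (Props12.isFlatOverAt_pullback_iff m (PicF.XTproj f T) (FGA.ET f F T) y (Flat.stalkMap m y)).1 hfl
  rw [hm2] at h1
  exact DvrCrit.isFlatOverAt_of_iso _ ((Scheme.Modules.pullbackComp m (pullback.fst f T.hom) ≪≫
    Scheme.Modules.pullbackCongr hm1 ≪≫ (Scheme.Modules.pullbackComp (pullback.fst (h ≫ f) T.hom) h).symm).app F) y h1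

end Groth.Agent.FlatMor12.FlatFun
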