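import Groth.Agent.FlatMor12.FlatFun.GenPtsDescent
import Groth.Agent.FlatMor12.FlatFun.DimLT
import Groth.Agent.Unram17Lib.RelDim
import Groth.Agent.FlatMorDim.LocalDim
import Groth.Agent.FlatMorLocalStr.SmoothFibres
import Groth.Agent.EGA43.DimFormula.Sub

/-!
# Flat in dimensions `≥ d` = locally free near generic points, in relative dimension `d`
-/

set_option autoImplicit false
set_option backward.isDefEq.respectTransparency false

universe u

open CategoryTheory Limits AlgebraicGeometry Opposite TopologicalSpace TensorProduct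

namespace Groth.Agent.FlatMor12.FlatFun

open Groth.Agent.EGA43 DimFormula

section Fibre

variable {X T : Scheme.{u}} (q : X ⟶ T) (d : ℕ) [SmoothOfRelativeDimension d q] [GeometricallyIrreducible q]

/-- The generic point of the fibre over `t`. -/
noncomputable def genPt (t : T) : X := q.fiberι t (genericPoint (q.fiber t))

omit [SmoothOfRelativeDimension d q] in
theorem apply_genPt (t : T) : q (genPt q t) = t := (q.range_fiberι t).le ⟨_, rfl⟩

omit [SmoothOfRelativeDimension d q] in
theorem genPt_specializes {t : T} {x : X} (hx : q x = t) : genPt q t ⤳ x := by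
  obtain ⟨a, rfl⟩ := (q.range_fiberι t).ge hx
  exact (genericPoint_specializes a).map (q.fiberι t).continuous

omit [GeometricallyIrreducible q] in
theorem trdAt_le_of_smooth (x : X) : trdAt q x ≤ d := by
  haveI : Smooth q := SmoothOfRelativeDimension.smooth d q
  exact (FlatMorDim.fibreDimAt_le_iff q x d).1
    (Unram17Lib.fibreDimAt_of_smoothOfRelativeDimension q d x).le x rfl specializes_rfl

theorem trdAt_genPt (t : T) : trdAt q (genPt q t) = d := by
  haveI : Smooth q := SmoothOfRelativeDimension.smooth d q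
  refine le_antisymm (trdAt_le_of_smooth q d _) ?_
  have h := (FlatMorDim.fibreDimAt_le_iff q (genPt q t) (trdAt q (genPt q t))).2 fun x' hx' hs => by
    have : x' = genPt q t := (hs.antisymm (genPt_specializes q (hx'.trans (apply_genPt q t)))).eq
    subst this
    exact le_rfl
  rw [Unram17Lib.fibreDimAt_of_smoothOfRelativeDimension q d] at h
  exact_mod_cast h

theorem trdAt_lt_of_ne {x : X} {t : T} (hx : q x = t) (hne : x ≠ genPt q t) : trdAt q x < d := by
  haveI : Smooth q := SmoothOfRelativeDimension.smooth d q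
  refine lt_of_lt_of_le ?_ (trdAt_genPt q d t).le
  obtain ⟨a, rfl⟩ := (q.range_fiberι t).ge hx
  show DimLib.trdegHom _ < DimLib.trdegHom (q.residueFieldMap (q.fiberι t (genericPoint (q.fiber t)))).hom
  rw [← FibDepth.ptDim_fiber q t a, ← FibDepth.ptDim_fiber q t (genericPoint (q.fiber t))]
  haveI : LocallyOfFiniteType (q.fiberToSpecResidueField t) :=
    inferInstanceAs (LocallyOfFiniteType (pullback.snd q (T.fromSpecResidueField t)))
  exact DimLib.ptDim_lt_of_specializes (k := T.residueField t) (q.fiberToSpecResidueField t)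
    (genericPoint_specializes a) fun h => hne (congrArg (q.fiberι t) h.symm)

theorem exists_freeNear_of_flatAt [Smooth q] (M : X.Modules) [Coh.IsQCoh M] (hM : CohB1.IsFP M) (t : T)
    (hfl : FlatMod.IsFlatOverAt q M (genPt q t)) : ∃ p, FlatFun.IsFreeOfRankNear M p (genPt q t) := by
  haveI : Smooth (q.fiberToSpecResidueField t) :=
    inferInstanceAs (Smooth (pullback.snd q (T.fromSpecResidueField t)))
  haveI : IsReduced (q.fiber t) :=
    FlatMorLocalStr.isReduced_of_smooth_field (K := T.residueField t) (q.fiberToSpecResidueField t)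
  haveI : IsIntegral (q.fiber t) := isIntegral_of_irreducibleSpace_of_isReduced _
  letI : Field ((q.fiber t).presheaf.stalk (genericPoint (q.fiber t))) :=
    inferInstanceAs (Field (q.fiber t).functionField)
  have h := FreeLocusBC.free_stalk_of_fibre q M hM t (genericPoint (q.fiber t)) hfl (Module.Free.of_divisionRing _ _)
  obtain ⟨U, p, hx, e⟩ := Props12.exists_nhd_free M hM _ h
  exact ⟨p, U, hx, e⟩

omit [GeometricallyIrreducible q] in
theorem flatAt_of_freeNear [Flat q] (M : X.Modules) [Coh.IsQCoh M] {p : ℕ} {x : X}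
    (h : FlatFun.IsFreeOfRankNear M p x) : FlatMod.IsFlatOverAt q M x := by
  obtain ⟨b⟩ := exists_basis_stalk_of_freeNear M h
  let _ := (q.stalkMap x).hom.toAlgebra
  let _ := FlatMod.moduleStalkOver q M x
  haveI : IsScalarTower (T.presheaf.stalk (q x)) (X.presheaf.stalk x) (M.presheaf.stalk x) :=
    IsScalarTower.of_algebraMap_smul fun _ _ => rfl
  haveI : Module.Free (X.presheaf.stalk x) (M.presheaf.stalk x) := .of_basis b
  haveI : Module.Flat (T.presheaf.stalk (q x)) (X.presheaf.stalk x) := Flat.stalkMap q x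
  exact Module.Flat.trans (T.presheaf.stalk (q x)) (X.presheaf.stalk x) (M.presheaf.stalk x)

end Fibre

section Functor

variable {X S : Scheme.{u}} (f : X ⟶ S) (F : X.Modules) [Coh.IsQCoh F]

theorem exists_rank_bound [IsAffine X] (hF : CohB1.IsFT F) :
    ∃ c : ℕ, ∀ {Y : Scheme.{u}} (g : Y ⟶ X) (p : ℕ) (y : Y),
      FlatFun.IsFreeOfRankNear ((Scheme.Modules.pullback g).obj F) p y → p ≤ c := by
  have := Coherent.finite_sections F (Coherent.locallyFinGen_of_isFT F hF) (isAffineOpen_top X)
  obtain ⟨c, s, hs⟩ := Module.Finite.exists_fin (R := Γ(X, ⊤)) (M := Γ(F, ⊤))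
  refine ⟨c, fun {Y} g p y hy => ?_⟩
  classical
  have := InjFibre.isQCoh_pullback g F
  obtain ⟨b⟩ := exists_basis_stalk_of_freeNear _ hy
  let _ := (g.stalkMap y).hom.toAlgebra
  let v : Fin c → Y.presheaf.stalk y ⊗[X.presheaf.stalk (g y)] F.presheaf.stalk (g y) :=
    fun i => 1 ⊗ₜ F.presheaf.germ ⊤ (g y) trivial (s i)
  have hv : ⊤ ≤ Submodule.span (Y.presheaf.stalk y) (Set.range v) := fun z _ => by
    induction z using TensorProduct.induction_on with
    | zero => exact zero_mem _
    | add a b ha hb => exact add_mem (ha trivial) (hb trivial)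
    | tmul a m =>
      obtain ⟨e, rfl⟩ := (Submodule.mem_span_range_iff_exists_fun (X.presheaf.stalk (g y))).1
        (Props12.span_germ_eq_top F (isAffineOpen_top X) hs.ge (y := g y) trivial (Submodule.mem_top (x := m)))
      rw [TensorProduct.tmul_sum]
      refine Submodule.sum_mem _ fun i _ => ?_
      rw [TensorProduct.tmul_smul, show a ⊗ₜ[X.presheaf.stalk (g y)] F.presheaf.germ ⊤ (g y) trivial (s i) = a • v i by
        rw [TensorProduct.smul_tmul', smul_eq_mul, mul_one]]
      exact Submodule.smul_of_tower_mem _ _ (Submodule.smul_mem _ _ (Submodule.subset_span ⟨i, rfl⟩))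
  have h1 := linearIndependent_le_span _ (b.map (FreeLocusBC.stalkTensor g F y)).linearIndependent (Set.range v) (top_unique hv)
  rw [Cardinal.mk_fintype, Fintype.card_fin, Nat.cast_le] at h1
  exact h1.trans ((Fintype.card_range_le v).trans (by simp))

variable [GeometricallyIrreducible f] (d : ℕ) [SmoothOfRelativeDimension d f]

theorem dimLT_iff_genPts (hF : CohB1.IsFP F) (T : Over S) :
    (FlatFun.DimFibresLT d (PicF.XTproj f T) {x | ¬ FlatMod.IsFlatOverAt (PicF.XTproj f T) (FGA.ET f F T) x}) ↔
      ∀ t : T.left, ∃ (V : T.left.Opens) (p : ℕ), t ∈ V ∧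
        FlatFun.FreeAtGenericPts (PicF.XTproj f (Over.mk (V.ι ≫ T.hom)))
          (FGA.ET f F (Over.mk (V.ι ≫ T.hom))) p := by
  haveI : Smooth f := SmoothOfRelativeDimension.smooth d f
  let q := PicF.XTproj f T
  haveI : SmoothOfRelativeDimension d q := by
    haveI := smoothOfRelativeDimension_isStableUnderBaseChange d
    exact MorphismProperty.pullback_snd (P := @SmoothOfRelativeDimension d) f T.hom ‹_›
  haveI : Smooth q := SmoothOfRelativeDimension.smooth d q
  haveI := InjFibre.isQCoh_pullback (pullback.fst f T.hom) F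
  have hFT : CohB1.IsFP (FGA.ET f F T) := Desc19b.ModStFib.isFP_pullback _ F hF
  rw [dimFibresLT_iff]
  let gV : ∀ V : T.left.Opens, Over.mk (V.ι ≫ T.hom) ⟶ T := fun V => Over.homMk V.ι
  constructor
  · intro h t
    obtain ⟨p, hp⟩ := exists_freeNear_of_flatAt q _ hFT t (by
      by_contra hn
      exact absurd (h _ hn) (not_lt.2 (trdAt_genPt q d t).ge))
    let V : T.left.Opens := ⟨q '' {x | FlatFun.IsFreeOfRankNear (FGA.ET f F T) p x},
      q.isOpenMap _ (isOpen_freeNear _ p)⟩
    refine ⟨V, p, ⟨_, hp, apply_genPt q t⟩, ?_⟩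
    rw [freeAtGenericPts_iff]
    intro v
    obtain ⟨x, hx, hxv⟩ : (gV V).left v ∈ V := v.2
    have sq := isPullback_XTmap f (gV V)
    obtain ⟨z, hz1, hz2⟩ := Scheme.Pullback.exists_preimage_pullback (f := PicF.XTproj f T) (g := (gV V).left) x v hxv
    refine ⟨sq.isoPullback.inv z, by rw [← Scheme.Hom.comp_apply, sq.isoPullback_inv_snd, hz2], ?_⟩
    have h1 : PicF.XTmap f (gV V) (sq.isoPullback.inv z) = x := by
      rw [← Scheme.Hom.comp_apply, sq.isoPullback_inv_fst, hz1]
    exact freeNear_of_iso (FGA.ETiso f F (gV V)) (freeNear_pullback _ (h1.symm ▸ hx))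
  · intro h x hx
    by_contra hlt
    have hgp : x = genPt q (q x) := by_contra fun hne => hlt (trdAt_lt_of_ne q d rfl hne)
    obtain ⟨V, p, htV, hV⟩ := h (q x)
    rw [freeAtGenericPts_iff] at hV
    obtain ⟨y, hy, hf⟩ := hV ⟨q x, htV⟩
    have sq := isPullback_XTmap f (gV V)
    haveI : IsOpenImmersion (gV V).left := inferInstanceAs (IsOpenImmersion V.ι)
    haveI : IsOpenImmersion (PicF.XTmap f (gV V)) :=
      MorphismProperty.of_isPullback (P := @IsOpenImmersion) sq.flip inferInstance
    obtain ⟨U, hyU, e⟩ := freeNear_of_openImmersion _ (freeNear_of_iso (FGA.ETiso f F (gV V)).symm hf)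
    have hqy : q (PicF.XTmap f (gV V) y) = q x := by
      rw [← Scheme.Hom.comp_apply, sq.w, Scheme.Hom.comp_apply, hy]
      rfl
    have hnear : FlatFun.IsFreeOfRankNear (FGA.ET f F T) p x :=
      ⟨U, hgp ▸ (genPt_specializes q hqy).mem_open U.2 hyU, e⟩
    exact hx (flatAt_of_freeNear q _ hnear)

end Functor

end Groth.Agent.FlatMor12.FlatFun
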