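import Groth.Agent.FlatMor12.FlatFun.Stage
import Groth.Agent.FlatMor12.FlatFun.DimLT
import Groth.Agent.FlatMorDim.LocalDim
import Groth.Agent.H8Lim.Topology

/-!
# `DimFibresLT` of the non-flat locus descends to a stage
-/

set_option autoImplicit false
set_option backward.isDefEq.respectTransparency false

universe u

open CategoryTheory Limits AlgebraicGeometry Opposite TopologicalSpace

namespace Groth.Agent.FlatMor12.FlatFun

open Groth.Agent.EGA43 DimFormula

section Closed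

variable {X Y : Scheme.{u}} (f : X ⟶ Y)

/-- Points lying below a point of `Z` of large transcendence degree in the same fibre. -/
def badSet (n : ℕ) (Z : Set X) : Set X :=
  {x | ∃ w ∈ Z, w ⤳ x ∧ f w = f x ∧ n ≤ trdAt f w}

theorem isClosed_badSet [LocallyOfFiniteType f] (n : ℕ) {Z : Set X} (hZ : IsClosed Z) :
    IsClosed (badSet f n Z) := by
  rcases n with _ | m
  · convert hZ
    exact Set.ext fun x => ⟨fun ⟨w, hw, hs, _⟩ => hs.mem_closed hZ hw,
      fun hx => ⟨x, hx, specializes_rfl, rfl, Nat.zero_le _⟩⟩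
  let J := Scheme.IdealSheafData.vanishingIdeal (⟨Z, hZ⟩ : Closeds X)
  let ι := J.subschemeι
  have hrange : Set.range ι = Z := by
    rw [Scheme.IdealSheafData.range_subschemeι]
    exact Scheme.IdealSheafData.coe_support_vanishingIdeal _
  convert ι.isClosedEmbedding.isClosedMap _
    (FlatMorDim.isOpen_fibreDimAt_le (ι ≫ f) m).isClosed_compl using 1
  refine Set.ext fun x => ⟨fun ⟨w, hw, hs, hfw, hn⟩ => ?_, ?_⟩
  · obtain ⟨z, rfl⟩ := hrange.ge (hs.mem_closed hZ hw)
    obtain ⟨w, rfl⟩ := hrange.ge hw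
    refine ⟨z, fun hle => ?_, rfl⟩
    have h1 : trdAt (ι ≫ f) w ≤ m :=
      (FlatMorDim.fibreDimAt_le_iff (ι ≫ f) z m).1 hle w hfw (ι.isEmbedding.toIsInducing.specializes_iff.1 hs)
    rw [trdAt_comp ι f] at h1
    omega
  · rintro ⟨z, hz, rfl⟩
    have hz' : ¬ ∀ w, (ι ≫ f) w = (ι ≫ f) z → w ⤳ z → trdAt (ι ≫ f) w ≤ m :=
      fun h => hz ((FlatMorDim.fibreDimAt_le_iff (ι ≫ f) z m).2 h)
    push_neg at hz'
    obtain ⟨w, hfw, hs, hlt⟩ := hz'
    rw [trdAt_comp ι f] at hlt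
    exact ⟨ι w, hrange.le ⟨w, rfl⟩, hs.map ι.continuous, hfw, hlt⟩

end Closed

section Stage

variable {I : Type u} [SmallCategory I] [IsCofiltered I] {D : I ⥤ Scheme.{u}} {c : Cone D}
  {i₀ : I} {Z₀ W : Scheme.{u}} {g₀ : Z₀ ⟶ D.obj i₀} {q : W ⟶ Z₀} {g : W ⟶ c.pt}
  {F₀ : Z₀.Modules} [Coh.IsQCoh F₀]
  [∀ {i j} (φ : i ⟶ j), IsAffineHom (D.map φ)] [∀ i, IsAffine (D.obj i)]
  [IsAffine c.pt] [LocallyOfFinitePresentation g₀]

theorem exists_flatAt_stage (hc : IsLimit c) (sq : IsPullback q g g₀ (c.π.app i₀)) (hF : CohB1.IsFP F₀)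
    (x : W) (h : FlatMod.IsFlatOverAt g ((Scheme.Modules.pullback q).obj F₀) x) :
    ∃ j : Over i₀, FlatMod.IsFlatOverAt (pullback.snd g₀ (D.map j.hom))
      ((Scheme.Modules.pullback (pullback.fst g₀ (D.map j.hom))).obj F₀)
      ((Limit.stageCone D c g₀ sq).π.app j x) := by
  let E := Limit.stage D g₀
  let cE := Limit.stageCone D c g₀ sq
  have : LocallyOfFinitePresentation g := MorphismProperty.of_isPullback sq inferInstance
  have := InjFibre.isQCoh_pullback q F₀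
  have hFW := Desc19b.ModStFib.isFP_pullback q F₀ hF
  obtain ⟨j, V, hV, hxV, hVU⟩ := H8Lim.exists_mem_preimage_subset (D := E) (c := cE)
    (Limit.isLimitStageCone D c g₀ sq hc) (QcohFlat.isOpen_setOf_isFlatOverAt g _ hFW) h
  let pj := pullback.fst g₀ (D.map j.hom)
  let gj := pullback.snd g₀ (D.map j.hom)
  let πj : W ⟶ E.obj j := cE.π.app j
  let Fj := (Scheme.Modules.pullback pj).obj F₀
  have := InjFibre.isQCoh_pullback pj F₀
  have hFj : CohB1.IsFP Fj := Desc19b.ModStFib.isFP_pullback pj F₀ hF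
  have : LocallyOfFinitePresentation gj :=
    inferInstanceAs (LocallyOfFinitePresentation (pullback.snd g₀ (D.map j.hom)))
  have : CompactSpace V.toScheme := isCompact_iff_compactSpace.mp hV.isCompact
  have hπq : πj ≫ pj = q := pullback.lift_fst _ _ _
  let V' : W.Opens := πj ⁻¹ᵁ V
  have sqV : IsPullback (πj ∣_ V) (V'.ι ≫ g) (V.ι ≫ gj) (c.π.app j.left) := by
    have h1 := isPullback_morphismRestrict πj V
    exact (h1.paste_vert (Limit.stageCone_isPullback D c g₀ sq j))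
  have hflat : FlatMod.IsFlatOver (V'.ι ≫ g)
      ((Scheme.Modules.pullback (πj ∣_ V)).obj ((Scheme.Modules.pullback V.ι).obj Fj)) := fun y => by
    have h1 := (Props12.isFlatOverAt_pullback_iff V'.ι g ((Scheme.Modules.pullback q).obj F₀) y
      (Flat.stalkMap V'.ι y)).1 (hVU y.2)
    have e : πj ∣_ V ≫ V.ι ≫ pj = V'.ι ≫ q := by
      rw [← Category.assoc, morphismRestrict_ι, Category.assoc, hπq]
    exact DvrCrit.isFlatOverAt_of_iso _ (((Scheme.Modules.pullbackComp V'.ι q) ≪≫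
      Scheme.Modules.pullbackCongr e.symm ≪≫ (Scheme.Modules.pullbackComp (πj ∣_ V) (V.ι ≫ pj)).symm ≪≫
      Functor.isoWhiskerRight (Scheme.Modules.pullbackComp V.ι pj).symm _).app F₀) y h1
  have := InjFibre.isQCoh_pullback V.ι Fj
  obtain ⟨k, hk⟩ := exists_flat_stage_scheme hc sqV (Desc19b.ModStFib.isFP_pullback V.ι Fj hFj) hflat
  let k' : Over i₀ := Over.mk (k.hom ≫ j.hom)
  let φ : k' ⟶ j := Over.homMk k.hom
  refine ⟨k', ?_⟩
  let gk := pullback.snd g₀ (D.map k'.hom)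
  let Vk : (E.obj k').Opens := E.map φ ⁻¹ᵁ V
  have hx' : cE.π.app k' x ∈ Vk := by
    show E.map φ (cE.π.app k' x) ∈ V
    rw [← Scheme.Hom.comp_apply, cE.w φ]
    exact hxV
  have sqk : IsPullback (E.map φ ∣_ V) (Vk.ι ≫ gk) (V.ι ≫ gj) (D.map k.hom) :=
    (isPullback_morphismRestrict (E.map φ) V).paste_vert (Limit.stage_isPullback D g₀ φ)
  let e := sqk.isoPullback
  have hsq : IsPullback e.hom (Vk.ι ≫ gk) (pullback.snd (V.ι ≫ gj) (D.map k.hom)) (𝟙 _) :=
    IsPullback.of_horiz_isIso ⟨by rw [IsPullback.isoPullback_hom_snd, Category.comp_id]⟩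
  have h2 := Desc19b.isFlatOverAt_baseChange _ _ _ _ hsq _ ⟨_, hx'⟩ (hk (e.hom ⟨_, hx'⟩))
  refine (Props12.isFlatOverAt_pullback_iff Vk.ι gk _ ⟨_, hx'⟩ (Flat.stalkMap Vk.ι _)).2 ?_
  have e1 : e.hom ≫ pullback.fst (V.ι ≫ gj) (D.map k.hom) = E.map φ ∣_ V := sqk.isoPullback_hom_fst
  have e2 : E.map φ ∣_ V ≫ V.ι ≫ pj = Vk.ι ≫ pullback.fst g₀ (D.map k'.hom) := by
    rw [← Category.assoc, morphismRestrict_ι, Category.assoc, Limit.stage_map_fst]
  exact DvrCrit.isFlatOverAt_of_iso _ (((Scheme.Modules.pullbackComp e.hom (pullback.fst _ _)).app _) ≪≫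
      (Scheme.Modules.pullbackCongr e1).app _ ≪≫
      ((Functor.isoWhiskerRight (Scheme.Modules.pullbackComp V.ι pj) _) ≪≫
        Scheme.Modules.pullbackComp (E.map φ ∣_ V) (V.ι ≫ pj) ≪≫ Scheme.Modules.pullbackCongr e2 ≪≫
        (Scheme.Modules.pullbackComp Vk.ι (pullback.fst g₀ (D.map k'.hom))).symm).app F₀) _ h2

theorem exists_dimLT_stage_scheme [QuasiCompact g₀] (n : ℕ) (hc : IsLimit c)
    (sq : IsPullback q g g₀ (c.π.app i₀)) (hF : CohB1.IsFP F₀)
    (h : ∀ x, ¬ FlatMod.IsFlatOverAt g ((Scheme.Modules.pullback q).obj F₀) x → trdAt g x < n) :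
    ∃ j : Over i₀, ∀ z, ¬ FlatMod.IsFlatOverAt (pullback.snd g₀ (D.map j.hom))
      ((Scheme.Modules.pullback (pullback.fst g₀ (D.map j.hom))).obj F₀) z →
        trdAt (pullback.snd g₀ (D.map j.hom)) z < n := by
  let E := Limit.stage D g₀
  let cE := Limit.stageCone D c g₀ sq
  let gs : ∀ j : Over i₀, E.obj j ⟶ D.obj j.left := fun j => pullback.snd g₀ (D.map j.hom)
  let ps : ∀ j : Over i₀, E.obj j ⟶ Z₀ := fun j => pullback.fst g₀ (D.map j.hom)
  let NF : ∀ j : Over i₀, Set (E.obj j) := fun j =>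
    {z | ¬ FlatMod.IsFlatOverAt (gs j) ((Scheme.Modules.pullback (ps j)).obj F₀) z}
  have hlfp : ∀ j, LocallyOfFinitePresentation (gs j) := fun j =>
    inferInstanceAs (LocallyOfFinitePresentation (pullback.snd g₀ (D.map j.hom)))
  have hNF : ∀ j, IsClosed (NF j) := fun j => by
    have := InjFibre.isQCoh_pullback (ps j) F₀
    exact (QcohFlat.isOpen_setOf_isFlatOverAt (gs j) _ (Desc19b.ModStFib.isFP_pullback (ps j) F₀ hF)).isClosed_compl
  have hNFmap : ∀ {i j : Over i₀} (φ : i ⟶ j) (z : E.obj i), z ∈ NF i → E.map φ z ∈ NF j := fun {i j} φ z hz hfl =>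
    hz (DvrCrit.isFlatOverAt_of_iso _ ((Scheme.Modules.pullbackComp (E.map φ) (ps j) ≪≫
      Scheme.Modules.pullbackCongr (Limit.stage_map_fst D g₀ φ)).app F₀) z
      (Desc19b.isFlatOverAt_baseChange _ _ _ _ (Limit.stage_isPullback D g₀ φ) _ z hfl))
  by_contra hcon
  push_neg at hcon
  have hne : ∀ j, (badSet (gs j) n (NF j)).Nonempty := fun j => by
    obtain ⟨z, hz, hzn⟩ := hcon j
    exact ⟨z, z, hz, specializes_rfl, rfl, hzn⟩
  have : ∀ {i j : Over i₀} (φ : i ⟶ j), IsAffineHom (E.map φ) := fun φ => inferInstance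
  obtain ⟨s, hs⟩ := AlgebraicGeometry.exists_mem_of_isClosed_of_nonempty E cE
    (Limit.isLimitStageCone D c g₀ sq hc) (fun j => badSet (gs j) n (NF j))
    (fun j => isClosed_badSet (gs j) n (hNF j)) hne (fun j => (isClosed_badSet (gs j) n (hNF j)).isCompact)
    (fun {i j} φ z ⟨w, hw, hwz, hfw, hn⟩ => ⟨E.map φ w, hNFmap φ w hw, hwz.map (E.map φ).continuous, by
      rw [← Scheme.Hom.comp_apply, ← Scheme.Hom.comp_apply, (Limit.stage_isPullback D g₀ φ).w,
        Scheme.Hom.comp_apply, Scheme.Hom.comp_apply, hfw],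
      hn.trans (trdAt_baseChange_le (Limit.stage_isPullback D g₀ φ) w)⟩)
  have : LocallyOfFinitePresentation g := MorphismProperty.of_isPullback sq inferInstance
  have : QuasiCompact g := MorphismProperty.of_isPullback sq inferInstance
  set t := g s
  have : LocallyOfFiniteType (g.fiberToSpecResidueField t) :=
    inferInstanceAs (LocallyOfFiniteType (pullback.snd g (c.pt.fromSpecResidueField t)))
  have : QuasiCompact (g.fiberToSpecResidueField t) :=
    inferInstanceAs (QuasiCompact (pullback.snd g (c.pt.fromSpecResidueField t)))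
  have := LocallyOfFiniteType.isLocallyNoetherian (g.fiberToSpecResidueField t)
  have := QuasiCompact.compactSpace_of_compactSpace (g.fiberToSpecResidueField t)
  have : IsNoetherian (g.fiber t) := { }
  let A : Over i₀ → Closeds (g.fiber t) := fun j =>
    ⟨(g.fiberι t) ⁻¹' (cE.π.app j ⁻¹' NF j),
      ((hNF j).preimage (cE.π.app j).continuous).preimage (g.fiberι t).continuous⟩
  have : Nonempty (Over i₀) := ⟨Over.mk (𝟙 i₀)⟩
  obtain ⟨_, ⟨j₀, rfl⟩, hmin⟩ := (wellFounded_lt (α := Closeds (g.fiber t))).has_min (Set.range A)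
    (Set.range_nonempty A)
  have hmono : ∀ {i j : Over i₀} (φ : i ⟶ j), A i ≤ A j := fun {i j} φ a ha => by
    show cE.π.app j (g.fiberι t a) ∈ NF j
    rw [← cE.w φ, Scheme.Hom.comp_apply]
    exact hNFmap φ _ ha
  obtain ⟨w, hw, hwz, hfw, hn⟩ := hs j₀
  have sq₀ := Limit.stageCone_isPullback D c g₀ sq j₀
  obtain ⟨x', hx1, hx2, hle⟩ := exists_trdAt_baseChange sq₀ w t (by
    rw [hfw]
    exact ((Scheme.Hom.comp_apply _ _ _).symm.trans (by rw [← sq₀.w]; rfl)).trans (Scheme.Hom.comp_apply _ _ _))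
  obtain ⟨a, ha⟩ : x' ∈ Set.range (g.fiberι t) := by rw [g.range_fiberι]; exact hx2
  have haj : ∀ j, a ∈ A j := fun j => by
    have h0 : a ∈ A j₀ := by
      show cE.π.app j₀ (g.fiberι t a) ∈ NF j₀
      rw [ha, hx1]
      exact hw
    let k := IsCofiltered.min j₀ j
    have heq : A k = A j₀ := (hmono (IsCofiltered.minToLeft j₀ j)).eq_or_lt.resolve_right (hmin _ ⟨k, rfl⟩)
    exact hmono (IsCofiltered.minToRight j₀ j) (heq.ge h0)
  refine absurd (h x' fun hfl => ?_) (not_lt.2 (hn.trans hle))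
  obtain ⟨j, hj⟩ := exists_flatAt_stage hc sq hF x' hfl
  have := haj j
  change cE.π.app j (g.fiberι t a) ∈ NF j at this
  rw [ha] at this
  exact this hj

end Stage

section Functor

variable {X S : Scheme.{u}} (f : X ⟶ S) [QuasiCompact f] [LocallyOfFinitePresentation f]
  (F : X.Modules) [Coh.IsQCoh F]

theorem exists_dimLT_cond_stage (hF : CohB1.IsFP F) (n : ℕ) {I : Type u} [SmallCategory I] [IsCofiltered I]
    (D : I ⥤ Over S) (c : Cone D) (hc : IsLimit ((Over.forget S).mapCone c))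
    (hD : ∀ i, IsAffine (D.obj i).left) (hT : IsAffine c.pt.left)
    (h : FlatFun.DimFibresLT n (PicF.XTproj f c.pt)
      {x | ¬ FlatMod.IsFlatOverAt (PicF.XTproj f c.pt) (FGA.ET f F c.pt) x}) :
    ∃ i, FlatFun.DimFibresLT n (PicF.XTproj f (D.obj i))
      {x | ¬ FlatMod.IsFlatOverAt (PicF.XTproj f (D.obj i)) (FGA.ET f F (D.obj i)) x} := by
  obtain ⟨i₀⟩ := (IsCofiltered.nonempty : Nonempty I)
  have : ∀ i, IsAffine ((D ⋙ Over.forget S).obj i) := hD
  have : ∀ {i j : I} (φ : i ⟶ j), IsAffineHom ((D ⋙ Over.forget S).map φ) := fun φ => inferInstance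
  have : IsAffine ((Over.forget S).mapCone c).pt := hT
  have := InjFibre.isQCoh_pullback (pullback.fst f (D.obj i₀).hom) F
  have hF₀ : CohB1.IsFP (FGA.ET f F (D.obj i₀)) := Desc19b.ModStFib.isFP_pullback _ F hF
  have : LocallyOfFinitePresentation (PicF.XTproj f (D.obj i₀)) :=
    inferInstanceAs (LocallyOfFinitePresentation (pullback.snd f (D.obj i₀).hom))
  have : QuasiCompact (PicF.XTproj f (D.obj i₀)) :=
    inferInstanceAs (QuasiCompact (pullback.snd f (D.obj i₀).hom))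
  rw [dimFibresLT_iff] at h
  obtain ⟨j, hj⟩ := exists_dimLT_stage_scheme (D := D ⋙ Over.forget S) (c := (Over.forget S).mapCone c)
    (g₀ := PicF.XTproj f (D.obj i₀)) n hc (isPullback_XTmap f (c.π.app i₀)) hF₀
    (fun x hx => h x fun hfl => hx (DvrCrit.isFlatOverAt_of_iso _ (FGA.ETiso f F (c.π.app i₀)).symm x hfl))
  refine ⟨j.left, ?_⟩
  rw [dimFibresLT_iff]
  intro x hx
  have sq' := isPullback_XTmap f (D.map j.hom)
  have e : sq'.isoPullback.hom ≫ pullback.fst _ _ = PicF.XTmap f (D.map j.hom) :=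
    IsPullback.isoPullback_hom_fst _
  have hsq : IsPullback sq'.isoPullback.hom (PicF.XTproj f (D.obj j.left))
      (pullback.snd (PicF.XTproj f (D.obj i₀)) (D.map j.hom).left) (𝟙 _) :=
    IsPullback.of_horiz_isIso ⟨by rw [IsPullback.isoPullback_hom_snd, Category.comp_id]⟩
  refine (trdAt_baseChange_le hsq x).trans_lt (hj _ fun hfl => hx ?_)
  exact DvrCrit.isFlatOverAt_of_iso _ (((Scheme.Modules.pullbackComp sq'.isoPullback.hom
    (pullback.fst (PicF.XTproj f (D.obj i₀)) (D.map j.hom).left) ≪≫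
    Scheme.Modules.pullbackCongr e).app _) ≪≫ FGA.ETiso f F (D.map j.hom)) x
    (Desc19b.isFlatOverAt_baseChange _ _ _ _ hsq _ x hfl)

end Functor

end Groth.Agent.FlatMor12.FlatFun
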