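import Groth.Agent.CAlgH.Colimit
import Groth.Agent.H8Lim.FlatDescent
import Mathlib.Algebra.Module.FinitePresentation
import Mathlib.Algebra.Module.LocalizedModule.Exact

/-!
# Descent of zero / surjective / bijective / flat to a stage of a colimit of rings
-/

set_option autoImplicit false

universe u v

open TensorProduct

namespace Groth.Agent.FlatMor12.FlatFun

open Groth.Agent.CAlgH

/-- The three properties of a map. -/
inductive Kind
  | zero
  | surj
  | bij

/-- The property attached to a kind. -/
def Kind.Holds (k : Kind) {M N : Type*} [Zero N] (l : M → N) : Prop :=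
  match k with
  | .zero => ∀ m, l m = 0
  | .surj => Function.Surjective l
  | .bij => Function.Bijective l

theorem Kind.holds_iff_of_equiv (k : Kind) {M N M' N' : Type*} [AddCommGroup M] [AddCommGroup N] [AddCommGroup M']
    [AddCommGroup N'] (l : M → N) (l' : M' → N') (e₁ : M ≃+ M') (e₂ : N ≃+ N')
    (h : ∀ m, e₂ (l m) = l' (e₁ m)) : k.Holds l ↔ k.Holds l' := by
  have hl : l' = e₂ ∘ l ∘ e₁.symm := funext fun m => by
    simp only [Function.comp_apply, h, AddEquiv.apply_symm_apply]
  subst hl
  cases k with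
  | zero =>
    refine ⟨fun H m => ?_, fun H m => e₂.injective ?_⟩
    · show e₂ (l (e₁.symm m)) = 0
      rw [show l (e₁.symm m) = 0 from H _, map_zero]
    · have h1 : e₂ (l (e₁.symm (e₁ m))) = 0 := H (e₁ m)
      rw [map_zero, ← h1, AddEquiv.symm_apply_apply]
  | surj =>
    show Function.Surjective l ↔ Function.Surjective (e₂ ∘ (l ∘ e₁.symm))
    rw [Function.Surjective.of_comp_iff' e₂.bijective]
    exact (Function.Surjective.of_comp_iff l e₁.symm.surjective).symm
  | bij =>
    show Function.Bijective l ↔ Function.Bijective (e₂ ∘ (l ∘ e₁.symm))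
    rw [Function.Bijective.of_comp_iff' e₂.bijective]
    exact (Function.Bijective.of_comp_iff l e₁.symm.bijective).symm

section LinearMap

variable {R : Type u} [CommRing R] {M N : Type u} [AddCommGroup M] [Module R M] [AddCommGroup N] [Module R N]

theorem Kind.holds_lTensor (k : Kind) (l : M →ₗ[R] N) (hl : k.Holds l) (S : Type u) [CommRing S]
    [Algebra R S] : k.Holds (l.lTensor S) := by
  cases k with
  | zero =>
    intro m
    rw [show l = 0 from LinearMap.ext hl, LinearMap.lTensor_zero, LinearMap.zero_apply]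
  | surj => exact LinearMap.lTensor_surjective S hl
  | bij => exact ((LinearEquiv.ofBijective l hl).lTensor S).bijective

theorem Kind.holds_localized (k : Kind) (l : M →ₗ[R] N) (hl : k.Holds l) (S : Submonoid R) {M' N' : Type u}
    [AddCommGroup M'] [Module R M'] [AddCommGroup N'] [Module R N'] (φ : M →ₗ[R] M') [IsLocalizedModule S φ]
    (ψ : N →ₗ[R] N') [IsLocalizedModule S ψ] (l' : M' →ₗ[R] N') (h : ∀ m, l' (φ m) = ψ (l m)) :
    k.Holds l' := by
  have e : l' = IsLocalizedModule.map S φ ψ l :=
    IsLocalizedModule.ext S φ (IsLocalizedModule.map_units ψ) (LinearMap.ext fun m => by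
      rw [LinearMap.comp_apply, LinearMap.comp_apply, h, IsLocalizedModule.map_apply])
  subst e
  cases k with
  | zero =>
    intro m
    rw [show l = 0 from LinearMap.ext hl, map_zero, LinearMap.zero_apply]
  | surj => exact IsLocalizedModule.map_surjective S φ ψ l hl
  | bij => exact ⟨IsLocalizedModule.map_injective S φ ψ l hl.1, IsLocalizedModule.map_surjective S φ ψ l hl.2⟩

variable {ι : Type v} {G : ι → Type u} [∀ i, CommRing (G i)]
  [∀ i, Algebra R (G i)] {A : Type u} [CommRing A] [Algebra R A] {g : ∀ i, G i →ₐ[R] A}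
  (hs : ColimSys g) (l : M →ₗ[R] N)

/-- The map to a later stage. -/
noncomputable abbrev push {i j : ι} (h : CompatHom g i j) (P : Type u) [AddCommGroup P] [Module R P] :
    G i ⊗[R] P →ₗ[R] G j ⊗[R] P :=
  h.1.toLinearMap.rTensor P

theorem push_lTensor {i j : ι} (h : CompatHom g i j) (z : G i ⊗[R] M) :
    push h N (l.lTensor (G i) z) = l.lTensor (G j) (push h M z) := by
  simp only [push, ← LinearMap.comp_apply, LinearMap.rTensor_comp_lTensor, LinearMap.lTensor_comp_rTensor]

include hs in
/-- Finitely many tensors vanishing in the colimit vanish at a common stage. -/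
theorem rTensor_kill_finite {i : ι} (s : Finset (G i ⊗[R] M))
    (hz : ∀ z ∈ s, (g i).toLinearMap.rTensor M z = 0) :
    ∃ j, ∃ h : CompatHom g i j, ∀ z ∈ s, push h M z = 0 := by
  classical
  induction s using Finset.induction with
  | empty => exact ⟨i, .refl g i, by simp⟩
  | insert a t _ ih =>
    obtain ⟨j, h, hh⟩ := ih fun z hz' => hz z (Finset.mem_insert_of_mem hz')
    obtain ⟨j', h', hh'⟩ := hs.rTensor_kill M (push h M a) (by
      rw [push, ← LinearMap.rTensor_comp_apply, ← AlgHom.comp_toLinearMap, h.2]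
      exact hz a (Finset.mem_insert_self _ _))
    refine ⟨j', h'.comp h, fun z hz' => ?_⟩
    show (h'.1.comp h.1).toLinearMap.rTensor M z = 0
    rw [AlgHom.comp_toLinearMap, LinearMap.rTensor_comp_apply]
    rcases Finset.mem_insert.1 hz' with rfl | hz'
    · exact hh'
    · rw [show h.1.toLinearMap.rTensor M z = 0 from hh z hz', map_zero]

include hs in
theorem exists_stage_zero [Module.Finite R M] (hl : ∀ z, l.lTensor A z = 0) :
    ∃ j, ∀ z, l.lTensor (G j) z = 0 := by
  classical
  obtain ⟨i⟩ := hs.nonempty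
  obtain ⟨n, m, hm⟩ := Module.Finite.exists_fin (R := R) (M := M)
  obtain ⟨j, h, hj⟩ := rTensor_kill_finite hs (i := i)
    (Finset.univ.image fun k : Fin n => (1 : G i) ⊗ₜ[R] l (m k)) (fun z hz => by
      obtain ⟨k, -, rfl⟩ := Finset.mem_image.1 hz
      rw [LinearMap.rTensor_tmul, AlgHom.toLinearMap_apply, map_one, ← LinearMap.lTensor_tmul, hl])
  refine ⟨j, fun z => ?_⟩
  induction z with
  | zero => simp
  | add a b ha hb => simp [ha, hb]
  | tmul a x =>
    have hx : x ∈ Submodule.span R (Set.range m) := hm ▸ Submodule.mem_top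
    induction hx using Submodule.span_induction with
    | mem y hy =>
      obtain ⟨k, rfl⟩ := hy
      have h1 := hj _ (Finset.mem_image_of_mem _ (Finset.mem_univ k))
      rw [push, LinearMap.rTensor_tmul, AlgHom.toLinearMap_apply, map_one] at h1
      rw [LinearMap.lTensor_tmul, show a ⊗ₜ[R] l (m k) = a • ((1 : G j) ⊗ₜ[R] l (m k)) by
        rw [TensorProduct.smul_tmul', smul_eq_mul, mul_one], h1, smul_zero]
    | zero => simp
    | add y y' _ _ hy hy' => simp [tmul_add, hy, hy']
    | smul r y _ hy => rw [tmul_smul, map_smul, hy, smul_zero]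

include hs in
theorem exists_stage_preimages {κ : Type*} [Finite κ] (n : κ → N) (hl : Function.Surjective (l.lTensor A)) :
    ∃ i, ∃ y : κ → G i ⊗[R] M, ∀ k, l.lTensor (G i) (y k) = 1 ⊗ₜ n k := by
  classical
  cases nonempty_fintype κ
  suffices H : ∀ s : Finset κ, ∃ i, ∃ y : κ → G i ⊗[R] M, ∀ k ∈ s, l.lTensor (G i) (y k) = 1 ⊗ₜ n k by
    obtain ⟨i, y, hy⟩ := H Finset.univ
    exact ⟨i, y, fun k => hy k (Finset.mem_univ k)⟩
  intro s
  induction s using Finset.induction with
  | empty => exact ⟨hs.nonempty.some, 0, by simp⟩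
  | insert b s _ ih =>
    obtain ⟨i, y, hy⟩ := ih
    obtain ⟨z, hz⟩ := hl (1 ⊗ₜ n b)
    obtain ⟨j, w, hw⟩ := hs.rTensor_surj M z
    obtain ⟨k, ⟨hi⟩, ⟨hj⟩⟩ := hs.dir i j
    obtain ⟨k', h', hk'⟩ := hs.rTensor_kill N (l.lTensor (G k) (push hj M w) - 1 ⊗ₜ n b) (by
      rw [map_sub, sub_eq_zero, LinearMap.rTensor_tmul, AlgHom.toLinearMap_apply, map_one, ← hz, ← hw]
      rw [show (g k).toLinearMap.rTensor N (l.lTensor (G k) (push hj M w)) =
        l.lTensor A ((g k).toLinearMap.rTensor M (push hj M w)) by
          show ((g k).toLinearMap.rTensor N ∘ₗ l.lTensor (G k)) (push hj M w) =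
            (l.lTensor A ∘ₗ (g k).toLinearMap.rTensor M) (push hj M w)
          rw [LinearMap.rTensor_comp_lTensor, LinearMap.lTensor_comp_rTensor],
        push, ← LinearMap.rTensor_comp_apply, ← AlgHom.comp_toLinearMap, hj.2])
    rw [map_sub, sub_eq_zero, ← push, push_lTensor, push, LinearMap.rTensor_tmul, AlgHom.toLinearMap_apply,
      map_one] at hk'
    refine ⟨k', fun c => if c = b then push h' M (push hj M w) else push h' M (push hi M (y c)), fun c hc => ?_⟩
    by_cases hcb : c = b
    · subst hcb; simp only [if_true]; exact hk'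
    · simp only [hcb, if_false]
      rw [← push_lTensor, ← push_lTensor, hy c ((Finset.mem_insert.1 hc).resolve_left hcb)]
      simp [push]

theorem lTensor_surjective_of_preimages {S : Type u} [CommRing S] [Algebra R S] {κ : Type*} (n : κ → N)
    (hn : Submodule.span R (Set.range n) = ⊤) (y : κ → S ⊗[R] M) (hy : ∀ k, l.lTensor S (y k) = 1 ⊗ₜ n k) :
    Function.Surjective (l.lTensor S) := by
  intro z
  induction z with
  | zero => exact ⟨0, map_zero _⟩
  | add a b ha hb =>
    obtain ⟨a', rfl⟩ := ha
    obtain ⟨b', rfl⟩ := hb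
    exact ⟨a' + b', map_add _ _ _⟩
  | tmul a x =>
    have hx : x ∈ Submodule.span R (Set.range n) := hn ▸ Submodule.mem_top
    induction hx using Submodule.span_induction with
    | mem t ht =>
      obtain ⟨k, rfl⟩ := ht
      refine ⟨a • y k, ?_⟩
      rw [show a ⊗ₜ[R] n k = a • ((1 : S) ⊗ₜ[R] n k) by
        rw [TensorProduct.smul_tmul', smul_eq_mul, mul_one], ← hy k]
      exact (l.baseChange S).map_smul a (y k)
    | zero => exact ⟨0, by simp⟩
    | add t t' _ _ ht ht' =>
      obtain ⟨a', ha'⟩ := ht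
      obtain ⟨b', hb'⟩ := ht'
      exact ⟨a' + b', by rw [map_add, ha', hb', tmul_add]⟩
    | smul r t _ ht =>
      obtain ⟨a', ha'⟩ := ht
      exact ⟨r • a', by rw [map_smul, ha', tmul_smul]⟩

include hs in
theorem exists_stage_surj [Module.Finite R N] (hl : Function.Surjective (l.lTensor A)) :
    ∃ j, Function.Surjective (l.lTensor (G j)) := by
  obtain ⟨n, x, hx⟩ := Module.Finite.exists_fin (R := R) (M := N)
  obtain ⟨i, y, hy⟩ := exists_stage_preimages hs l x hl
  exact ⟨i, lTensor_surjective_of_preimages l x hx y hy⟩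

include hs in
theorem exists_stage_bij [Module.Finite R M] [Module.FinitePresentation R N]
    (hl : Function.Bijective (l.lTensor A)) : ∃ j, Function.Bijective (l.lTensor (G j)) := by
  classical
  obtain ⟨n, K, e, hK⟩ := Module.FinitePresentation.exists_fin R N
  obtain ⟨s, hs'⟩ := hK
  let π : (Fin n → R) →ₗ[R] N := e.symm.toLinearMap ∘ₗ K.mkQ
  have hπ : Function.Surjective π := e.symm.surjective.comp K.mkQ_surjective
  have hker : LinearMap.ker π = K := by simp [π, LinearMap.ker_comp]
  obtain ⟨p, m, hm⟩ := Module.Finite.exists_fin (R := R) (M := M)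
  obtain ⟨i, y, hy⟩ := exists_stage_preimages hs l (fun k : Fin n => π (Pi.single k 1)) hl.2
  let P : (Fin n → R) →ₗ[R] G i ⊗[R] M := (Pi.basisFun R (Fin n)).constr R y
  have hP : l.lTensor (G i) ∘ₗ P = TensorProduct.mk R (G i) N 1 ∘ₗ π := by
    refine (Pi.basisFun R (Fin n)).ext fun k => ?_
    simp [P, hy]
  have hinjA : ∀ {a b : A ⊗[R] M}, l.lTensor A a = l.lTensor A b → a = b := fun hab => hl.1 hab
  have hgl : ∀ (i' : ι) (z : G i' ⊗[R] M),
      l.lTensor A ((g i').toLinearMap.rTensor M z) = (g i').toLinearMap.rTensor N (l.lTensor (G i') z) := by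
    intro i' z
    simp only [← LinearMap.comp_apply, LinearMap.rTensor_comp_lTensor, LinearMap.lTensor_comp_rTensor]
  choose c hc using fun k : Fin p => hπ (l (m k))
  obtain ⟨j, h, hj⟩ := rTensor_kill_finite hs (i := i)
    (s.image P ∪ (Finset.univ : Finset (Fin p)).image fun k => P (c k) - (1 : G i) ⊗ₜ[R] m k) (fun z hz => by
      rcases Finset.mem_union.1 hz with hz | hz <;> obtain ⟨w, hw, rfl⟩ := Finset.mem_image.1 hz
      · apply hinjA
        rw [map_zero, hgl, ← LinearMap.comp_apply (l.lTensor (G i)) P, hP, LinearMap.comp_apply,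
          show π w = 0 from LinearMap.mem_ker.1 (hker ▸ hs' ▸ Submodule.subset_span hw), map_zero, map_zero]
      · apply hinjA
        rw [map_zero, hgl, map_sub, ← LinearMap.comp_apply (l.lTensor (G i)) P, hP, LinearMap.comp_apply, hc,
          TensorProduct.mk_apply, LinearMap.lTensor_tmul, sub_self, map_zero])
  have hle : LinearMap.ker π ≤ LinearMap.ker (push h M ∘ₗ P) := by
    rw [hker, ← hs', Submodule.span_le]
    intro w hw
    exact hj _ (Finset.mem_union_left _ (Finset.mem_image_of_mem _ hw))
  let v : N →ₗ[R] G j ⊗[R] M :=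
    (LinearMap.ker π).liftQ _ hle ∘ₗ (π.quotKerEquivOfSurjective hπ).symm.toLinearMap
  have hv : ∀ w, v (π w) = push h M (P w) := fun w => by
    have : (π.quotKerEquivOfSurjective hπ).symm (π w) = Submodule.Quotient.mk w := by
      rw [LinearEquiv.symm_apply_eq]; rfl
    show (LinearMap.ker π).liftQ _ hle _ = _
    erw [this]
    rfl
  let V : G j ⊗[R] N →ₗ[G j] G j ⊗[R] M := LinearMap.liftBaseChange (G j) v
  have hVl : ∀ z, V (l.lTensor (G j) z) = z := by
    intro z
    induction z with
    | zero => simp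
    | add a b ha hb => simp [ha, hb]
    | tmul a x =>
      have hx : x ∈ Submodule.span R (Set.range m) := hm ▸ Submodule.mem_top
      induction hx using Submodule.span_induction with
      | mem t ht =>
        obtain ⟨k, rfl⟩ := ht
        have h1 := hj _ (Finset.mem_union_right _ (Finset.mem_image_of_mem _ (Finset.mem_univ k)))
        rw [map_sub, sub_eq_zero, push, LinearMap.rTensor_tmul, AlgHom.toLinearMap_apply, map_one] at h1
        rw [LinearMap.lTensor_tmul, LinearMap.liftBaseChange_tmul, ← hc k, hv, push, h1,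
          TensorProduct.smul_tmul', smul_eq_mul, mul_one]
      | zero => simp
      | add t t' _ _ ht ht' => simp only [tmul_add, map_add, ht, ht']
      | smul r t _ ht => simp only [tmul_smul, map_smul, LinearMap.map_smul_of_tower, ht]
  refine ⟨j, Function.LeftInverse.injective hVl,
    lTensor_surjective_of_preimages l (fun k : Fin n => π (Pi.single k 1)) ?_ (fun k => push h M (y k)) fun k => ?_⟩
  · rw [Set.range_comp' π (fun k : Fin n => (Pi.single k 1 : Fin n → R)), ← Submodule.map_span]
    have : Submodule.span R (Set.range fun k : Fin n => (Pi.single k 1 : Fin n → R)) = ⊤ := by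
      rw [← (Pi.basisFun R (Fin n)).span_eq]
      congr
      funext k
      simp
    rw [this, Submodule.map_top, LinearMap.range_eq_top.2 hπ]
  · rw [← push_lTensor, hy, push, LinearMap.rTensor_tmul, AlgHom.toLinearMap_apply, map_one]

include hs in
theorem Kind.exists_stage (k : Kind) (hM : k = .zero ∨ k = .bij → Module.Finite R M)
    (hN : k = .surj → Module.Finite R N) (hN' : k = .bij → Module.FinitePresentation R N)
    (hl : k.Holds (l.lTensor A)) : ∃ j, k.Holds (l.lTensor (G j)) := by
  cases k with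
  | zero => haveI := hM (Or.inl rfl); exact exists_stage_zero hs l hl
  | surj => haveI := hN rfl; exact exists_stage_surj hs l hl
  | bij => haveI := hM (Or.inr rfl); haveI := hN' rfl; exact exists_stage_bij hs l hl

include hs in
/-- Flatness of a finitely presented module descends to a stage. -/
theorem exists_flat_stage_module {B₀ : Type u} [CommRing B₀] [Algebra R B₀]
    [Algebra.FinitePresentation R B₀] (N₀ : Type u) [AddCommGroup N₀] [Module R N₀] [Module B₀ N₀]
    [IsScalarTower R B₀ N₀] [Module.FinitePresentation B₀ N₀] [Module.Flat A (A ⊗[R] N₀)] :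
    ∃ j, Module.Flat (G j) (G j ⊗[R] N₀) := by
  obtain ⟨R₀, _, P₀, M', _, _, _, _, _, _, _, _, ψ, e, -, -⟩ :=
    Groth.Agent.EGA43.FlatDescent.exists_model_of_finitePresentation (A := R) (S := B₀) (N := N₀)
  let E : A ⊗[R₀] M' ≃ₗ[A] A ⊗[R] N₀ :=
    (AlgebraTensorModule.cancelBaseChange R₀ R A A M').symm ≪≫ₗ
      AlgebraTensorModule.congr (LinearEquiv.refl A A) e
  have : Module.Flat A (A ⊗[R₀] M') := Module.Flat.of_linearEquiv E
  obtain ⟨B, hB, hBflat⟩ :=
    Groth.Agent.EGA43.FlatDescent.exists_stage_flat (R := R₀) P₀ (M := M') (A := A)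
  have : Algebra.FiniteType R₀ B := B.fg_iff_finiteType.1 hB
  have : Algebra.FinitePresentation R₀ B := Algebra.FinitePresentation.of_finiteType.1 inferInstance
  obtain ⟨j, ⟨φ⟩⟩ := Groth.Agent.H8Lim.exists_algHom_stage hs (R₀ := R₀) B B.val
  refine ⟨j, ?_⟩
  let _ : Algebra B (G j) := φ.toRingHom.toAlgebra
  have : IsScalarTower R₀ B (G j) := .of_algebraMap_eq fun r ↦ (φ.commutes r).symm
  have : Module.Flat (G j) (G j ⊗[R₀] M') := Module.Flat.of_linearEquiv
    (AlgebraTensorModule.cancelBaseChange R₀ B (G j) (G j) M').symm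
  exact Module.Flat.of_linearEquiv ((AlgebraTensorModule.cancelBaseChange R₀ R (G j) (G j) M').symm ≪≫ₗ
    AlgebraTensorModule.congr (LinearEquiv.refl (G j) (G j)) e).symm

end LinearMap

end Groth.Agent.FlatMor12.FlatFun
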